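import Cfsg.Agent.Lib.Perm.Groups.ZassenhausRegular

/-!
# Field coordinates for a doubly transitive group with abelian two-point stabilisers
-/

set_option autoImplicit false
set_option linter.unusedSectionVars false
set_option linter.style.haveILetI false

namespace CfsgLib.Perm.ZFrame

open MulAction

universe u v

/-- A commutative fixed-point-free group with at most two orbits gives a field structure. -/
theorem exists_field {F : Type u} [Group F] [Finite F] {H : Type v} [Group H] [Finite H] (φ : H →* MulAut F)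
    (hHc : ∀ g h : H, g * h = h * g) (hfree : ∀ h : H, ∀ u : F, u ≠ 1 → φ h u = u → h = 1)
    (hle : Nat.card F ≤ 2 * Nat.card H + 1) (hFc : ∀ u v : F, u * v = v * u) {p f : ℕ} [Fact p.Prime]
    (hexp : ∀ u : F, u ^ p = 1) (hF : Nat.card F = p ^ f) (u₀ : F) (hu₀ : u₀ ≠ 1) :
    ∃ (K : Type) (_ : Field K) (_ : Finite K) (ψ : K → F) (χ : H →* Kˣ), Function.Bijective ψ ∧
      (∀ x y, ψ (x + y) = ψ x * ψ y) ∧ ψ 1 = u₀ ∧ Function.Injective χ ∧
      (∀ h x, φ h (ψ x) = ψ ((χ h : K) * x)) ∧ Nat.card K = p ^ f := by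
  classical
  letI : CommGroup F := { (inferInstance : Group F) with mul_comm := hFc }
  let act : H → AddMonoid.End (Additive F) := fun h =>
    (MonoidHom.toAdditive (φ h).toMonoidHom : Additive F →+ Additive F)
  have hact : ∀ h (a : Additive F), act h a = Additive.ofMul (φ h a.toMul) := fun _ _ => rfl
  haveI : Finite (AddMonoid.End (Additive F)) :=
    Finite.of_injective (fun e : AddMonoid.End (Additive F) => (e : Additive F → Additive F)) DFunLike.coe_injective
  let E : Subring (AddMonoid.End (Additive F)) := Subring.centralizer (Set.range act)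
  have hcomm : ∀ (r : E) (h : H) (a : Additive F), act h ((r : AddMonoid.End (Additive F)) a) =
      (r : AddMonoid.End (Additive F)) (act h a) := fun r h a =>
    congrArg (fun e : AddMonoid.End (Additive F) => e a) (Subring.mem_centralizer_iff.1 r.2 (act h) ⟨h, rfl⟩)
  have hinv : ∀ Z : Subgroup F, (∀ h u, u ∈ Z → φ h u ∈ Z) → Z ≠ ⊥ → Z = ⊤ :=
    ZReg.invariant_eq_top φ hfree hle
  -- Schur
  have hker : ∀ r : E, (r : AddMonoid.End (Additive F)) ≠ 0 → Function.Injective (r : AddMonoid.End (Additive F)) := by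
    intro r hr
    rw [injective_iff_map_eq_zero]
    intro a ha
    let Z : Subgroup F :=
      { carrier := {u | (r : AddMonoid.End (Additive F)) (Additive.ofMul u) = 0}
        one_mem' := map_zero _
        mul_mem' := fun {x y} (hx : _ = (0 : Additive F)) (hy : _ = (0 : Additive F)) => by
          show (r : AddMonoid.End (Additive F)) (Additive.ofMul x + Additive.ofMul y) = 0
          rw [map_add, hx, hy, add_zero]
        inv_mem' := fun {x} (hx : _ = (0 : Additive F)) => by
          show (r : AddMonoid.End (Additive F)) (-Additive.ofMul x) = 0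
          rw [map_neg, hx, neg_zero] }
    by_contra hne
    have hZ : Z = ⊤ := hinv Z (fun h u (hu : _ = (0 : Additive F)) => by
      show (r : AddMonoid.End (Additive F)) (Additive.ofMul (φ h u)) = 0
      rw [show Additive.ofMul (φ h u) = act h (Additive.ofMul u) from rfl, ← hcomm, hu, map_zero]) (by
      intro e
      have hm : a.toMul ∈ Z := ha
      rw [e, Subgroup.mem_bot] at hm
      exact hne hm)
    refine hr (AddMonoidHom.ext fun x => ?_)
    have : x.toMul ∈ Z := hZ ▸ Subgroup.mem_top _
    exact this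
  haveI : NoZeroDivisors E := ⟨fun {x y} hxy => or_iff_not_imp_left.2 fun hx => by
    have hx' : (x : AddMonoid.End (Additive F)) ≠ 0 := fun h => hx (Subtype.ext h)
    refine Subtype.ext (AddMonoidHom.ext fun w => hker x hx' ?_)
    have := congrArg (fun g : E => (g : AddMonoid.End (Additive F)) w) hxy
    show (x : AddMonoid.End (Additive F)) ((y : AddMonoid.End (Additive F)) w) =
      (x : AddMonoid.End (Additive F)) ((0 : Additive F))
    rw [map_zero]
    exact this⟩
  haveI : Nontrivial F := ⟨⟨u₀, 1, hu₀⟩⟩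
  haveI : Nontrivial E := ⟨⟨0, 1, fun h => by
    have h1 := congrArg (fun g : E => (g : AddMonoid.End (Additive F)) (Additive.ofMul u₀)) h
    simp at h1
    exact hu₀ h1.symm⟩⟩
  haveI : IsDomain E := NoZeroDivisors.to_isDomain E
  letI : Field E := (Finite.isDomain_to_isField E).toField
  -- evaluation is bijective
  let ev : E → F := fun r => ((r : AddMonoid.End (Additive F)) (Additive.ofMul u₀)).toMul
  have hev_add : ∀ r s, ev (r + s) = ev r * ev s := fun r s => rfl
  have hev_inj : Function.Injective ev := by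
    intro r s h
    by_contra hne
    have h' : ((r - s : E) : AddMonoid.End (Additive F)) (Additive.ofMul u₀) = 0 := by
      show (r : AddMonoid.End (Additive F)) (Additive.ofMul u₀) - (s : AddMonoid.End (Additive F)) (Additive.ofMul u₀) = 0
      rw [show (r : AddMonoid.End (Additive F)) (Additive.ofMul u₀) = (s : AddMonoid.End (Additive F)) (Additive.ofMul u₀) from
        Additive.toMul.injective h, sub_self]
    have hr : ((r - s : E) : AddMonoid.End (Additive F)) ≠ 0 := fun e => hne (sub_eq_zero.1 (Subtype.ext e))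
    have h0 : Additive.ofMul u₀ = (0 : Additive F) := hker _ hr (h'.trans (map_zero _).symm)
    exact hu₀ h0
  have hmemE : ∀ h : H, act h ∈ E := fun h => Subring.mem_centralizer_iff.2 (by
    rintro _ ⟨g, rfl⟩
    refine AddMonoidHom.ext fun a => ?_
    show act g (act h a) = act h (act g a)
    rw [hact, hact, hact, hact, toMul_ofMul, toMul_ofMul, ← MulAut.mul_apply, ← MulAut.mul_apply,
      ← map_mul, ← map_mul, hHc])
  have hev_surj : Function.Surjective ev := by
    let Z : Subgroup F :=
      { carrier := Set.range ev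
        one_mem' := ⟨0, rfl⟩
        mul_mem' := fun {x y} ⟨r, hr⟩ ⟨s, hs⟩ => ⟨r + s, by rw [hev_add, hr, hs]⟩
        inv_mem' := fun {x} ⟨r, hr⟩ => ⟨-r, by rw [← hr]; rfl⟩ }
    have hZ : Z = ⊤ := hinv Z (fun h u ⟨r, hr⟩ => ⟨⟨act h, hmemE h⟩ * r, by rw [← hr]; rfl⟩) (by
      intro e
      have hm : u₀ ∈ Z := ⟨1, rfl⟩
      rw [e, Subgroup.mem_bot] at hm
      exact hu₀ hm)
    intro u
    have : u ∈ Z := hZ ▸ Subgroup.mem_top u
    exact this
  have hcardE : Nat.card E = p ^ f := by rw [Nat.card_eq_of_bijective ev ⟨hev_inj, hev_surj⟩, hF]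
  have hpE : (p : E) = 0 := by
    apply hev_inj
    show (((p : E) : AddMonoid.End (Additive F)) (Additive.ofMul u₀)).toMul = _
    rw [Subring.coe_natCast, AddMonoid.End.natCast_apply, toMul_nsmul, toMul_ofMul, hexp]
    rfl
  haveI : CharP E p := (CharP.charP_iff_prime_eq_zero (Fact.out : p.Prime)).2 hpE
  have hf0 : f ≠ 0 := by
    rintro rfl
    rw [pow_zero] at hF
    exact (Finite.one_lt_card (α := F)).ne' hF
  haveI : Fintype E := Fintype.ofFinite E
  haveI : Fintype (GaloisField p f) := Fintype.ofFinite _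
  let i : GaloisField p f ≃+* E := FiniteField.ringEquivOfCardEq (by
    rw [← Nat.card_eq_fintype_card, ← Nat.card_eq_fintype_card, GaloisField.card p f hf0, hcardE])
  let μ : H →* E :=
    { toFun := fun h => ⟨act h, hmemE h⟩
      map_one' := Subtype.ext (AddMonoidHom.ext fun a => by
        show Additive.ofMul (φ 1 a.toMul) = a
        rw [map_one]; rfl)
      map_mul' := fun g h => Subtype.ext (AddMonoidHom.ext fun a => by
        show Additive.ofMul (φ (g * h) a.toMul) = _
        rw [map_mul]; rfl) }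
  let χ : H →* (GaloisField p f)ˣ := (i.symm.toMonoidHom.comp μ).toHomUnits
  have hχ : ∀ h, (χ h : GaloisField p f) = i.symm (μ h) := fun h => rfl
  refine ⟨GaloisField p f, inferInstance, inferInstance, fun x => ev (i x), χ,
    ⟨hev_inj.comp i.injective, hev_surj.comp i.surjective⟩, fun x y => by show ev (i (x + y)) = ev (i x) * ev (i y); rw [map_add, hev_add], ?_, ?_, ?_, ?_⟩
  · show ev (i 1) = u₀
    rw [map_one]; rfl
  · intro g h e
    have e1 : μ g = μ h := i.symm.injective (congrArg Units.val e)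
    have e2 : φ g u₀ = φ h u₀ := congrArg (fun r : E => ((r : AddMonoid.End (Additive F)) (Additive.ofMul u₀)).toMul) e1
    refine inv_mul_eq_one.1 (hfree _ u₀ hu₀ ?_)
    rw [map_mul, MulAut.mul_apply, ← e2, ← MulAut.mul_apply, ← map_mul, inv_mul_cancel, map_one]
    rfl
  · intro h x
    show φ h (ev (i x)) = ev (i ((χ h : GaloisField p f) * x))
    rw [hχ, map_mul, RingEquiv.apply_symm_apply]
    rfl
  · exact GaloisField.card p f hf0

variable {G Ω : Type*} [Group G] [MulAction G Ω]

/-- Field coordinates with origin `b`, unit `z` and point at infinity `a`. -/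
structure Frame (a b z : Ω) (K : Type) [Field K] where
  /-- the coordinate map -/
  φ : K → Ω
  inj : Function.Injective φ
  ne_a : ∀ x, φ x ≠ a
  surj : ∀ y, y ≠ a → ∃ x, φ x = y
  zero : φ 0 = b
  one : φ 1 = z
  trans : ∀ c : K, ∃ g : G, g • a = a ∧ ∀ x, g • φ x = φ (x + c)
  /-- the scalars of the two-point stabiliser -/
  χ : ↥(stabilizer G a ⊓ stabilizer G b) →* Kˣ
  χinj : Function.Injective χ
  act : ∀ (h : ↥(stabilizer G a ⊓ stabilizer G b)) (x : K), (h : G) • φ x = φ ((χ h : K) * x)

/-- Coordinates from an elementary abelian regular normal subgroup of the point stabiliser. -/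
theorem exists_frame [Finite G] {a b z : Ω} (hab : a ≠ b) (hza : z ≠ a) (hzb : z ≠ b)
    (F : Subgroup G) (hFle : F ≤ stabilizer G a)
    (hnorm : ∀ h ∈ stabilizer G a ⊓ stabilizer G b, ∀ u ∈ F, h * u * h⁻¹ ∈ F)
    (hreg : ∀ y w : Ω, y ≠ a → w ≠ a → ∃! u : F, (u : G) • y = w)
    (hfix : ∀ h : G, h • a = a → h • b = b → ∀ c, c ≠ a → c ≠ b → h • c = c → h = 1)
    (hHc : ∀ h ∈ stabilizer G a ⊓ stabilizer G b, ∀ k ∈ stabilizer G a ⊓ stabilizer G b, h * k = k * h)
    (hle : Nat.card F ≤ 2 * Nat.card ↥(stabilizer G a ⊓ stabilizer G b) + 1)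
    (hFc : ∀ u ∈ F, ∀ v ∈ F, u * v = v * u) {p f : ℕ} (hp : p.Prime) (hexp : ∀ u ∈ F, u ^ p = 1)
    (hF : Nat.card F = p ^ f) :
    ∃ (K : Type) (_ : Field K) (_ : Finite K), Nonempty (Frame (G := G) a b z K) ∧ Nat.card K = p ^ f := by
  haveI := Fact.mk hp
  let H := stabilizer G a ⊓ stabilizer G b
  have hne : ∀ u : F, (u : G) • b ≠ a := fun u e => hab (by
    have h' : (u : G) • a = a := hFle u.2
    exact (smul_left_cancel _ (h'.trans e.symm)))
  let θ : H →* MulAut F :=
    { toFun := fun h =>
        { toFun := fun u => ⟨(h : G) * u * (h : G)⁻¹, hnorm h h.2 u u.2⟩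
          invFun := fun u => ⟨(h : G)⁻¹ * u * (h : G), by simpa using hnorm (h⁻¹ : H) (h⁻¹ : H).2 u u.2⟩
          left_inv := fun u => Subtype.ext (by simp [mul_assoc])
          right_inv := fun u => Subtype.ext (by simp [mul_assoc])
          map_mul' := fun u v => Subtype.ext (by simp [mul_assoc]) }
      map_one' := MulEquiv.ext fun u => Subtype.ext (by simp)
      map_mul' := fun g h => MulEquiv.ext fun u => Subtype.ext (by simp [mul_assoc]) }
  have hfree : ∀ h : H, ∀ u : F, u ≠ 1 → θ h u = u → h = 1 := by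
    intro h u hu e
    have e' : (h : G) * u = u * h := mul_inv_eq_iff_eq_mul.1 (congrArg Subtype.val e)
    have hub : (u : G) • b ≠ b := fun e => hu ((hreg b b hab.symm hab.symm).unique e (by simp))
    refine Subtype.ext (hfix h h.2.1 h.2.2 _ (hne u) hub ?_)
    rw [smul_smul, e', mul_smul, show (h : G) • b = b from h.2.2]
  obtain ⟨u₀, hu₀, -⟩ := hreg b z hab.symm hza
  have hu₁ : u₀ ≠ 1 := fun e => hzb (by rw [← hu₀, e]; simp)
  obtain ⟨K, hK, hKf, ψ, χ, hψ, hadd, hone, hχ, hact, hcard⟩ := exists_field θ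
    (fun g h => Subtype.ext (hHc g g.2 h h.2)) hfree hle (fun u v => Subtype.ext (hFc u u.2 v v.2))
    (fun u => Subtype.ext (hexp u u.2)) hF u₀ hu₁
  have h0 : ψ 0 = 1 := by
    have := hadd 0 0
    rw [add_zero] at this
    exact left_eq_mul.1 this
  refine ⟨K, hK, hKf, ⟨{
    φ := fun x => (ψ x : G) • b
    inj := fun x y e => hψ.1 ((hreg b _ hab.symm (hne _)).unique e rfl)
    ne_a := fun x => hne _
    surj := fun y hy => by
      obtain ⟨u, hu, -⟩ := hreg b y hab.symm hy
      obtain ⟨x, rfl⟩ := hψ.2 u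
      exact ⟨x, hu⟩
    zero := by simp [h0]
    one := by simp only [hone]; exact hu₀
    trans := fun c => ⟨(ψ c : G), hFle (ψ c).2, fun x => by
      rw [smul_smul, ← Subgroup.coe_mul, ← hadd, add_comm]⟩
    χ := χ
    χinj := hχ
    act := fun h x => by
      rw [← hact]
      show (h : G) • (ψ x : G) • b = ((h : G) * ψ x * (h : G)⁻¹) • b
      rw [mul_smul, mul_smul, inv_smul_eq_iff.2 (show b = (h : G) • b from h.2.2.symm)] }⟩, hcard⟩

end CfsgLib.Perm.ZFrame
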