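import Mathlib

/-!
# Elements interchanging two points of a doubly transitive group
-/

set_option autoImplicit false
set_option linter.unusedSectionVars false
set_option linter.style.haveILetI false

namespace CfsgLib.Perm.ZSwap

open MulAction

variable {G Ω : Type*} [Group G] [Fintype G] [MulAction G Ω] [Fintype Ω] [DecidableEq Ω]

/-- If the involutions of `I` make enough moves, every element interchanging two points lies in `I`. -/
theorem all_swappers (h2 : IsMultiplyPretransitive G Ω 2) {a b : Ω} (hab : a ≠ b) (I : Finset G) (M : ℕ)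
    (hinv : ∀ g ∈ I, ∀ x : Ω, g • g • x = x)
    (hmove : ∀ g ∈ I, M ≤ (Finset.univ.filter (fun x : Ω => g • x ≠ x)).card)
    (hcard : (Finset.univ.offDiag : Finset (Ω × Ω)).card *
      Nat.card ↥(stabilizer G a ⊓ stabilizer G b) ≤ I.card * M)
    {g₁ : G} (hga : g₁ • a = b) (hgb : g₁ • b = a) : g₁ ∈ I := by
  classical
  obtain ⟨d, hd⟩ : ∃ d, d = Nat.card ↥(stabilizer G a ⊓ stabilizer G b) := ⟨_, rfl⟩
  rw [← hd] at hcard
  by_contra hg
  let S : Ω × Ω → Finset G := fun q => Finset.univ.filter (fun g => g • q.1 = q.2 ∧ g • q.2 = q.1)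
  have hswap : ∀ q ∈ (Finset.univ.offDiag : Finset (Ω × Ω)), (S q).card ≤ d := by
    rintro ⟨x, y⟩ hq
    have hxy : x ≠ y := (Finset.mem_offDiag.1 hq).2.2
    rcases (S (x, y)).eq_empty_or_nonempty with e | ⟨g₀, hg₀⟩
    · rw [e, Finset.card_empty]; exact Nat.zero_le _
    obtain ⟨h1, h2'⟩ : g₀ • x = y ∧ g₀ • y = x := (Finset.mem_filter.1 hg₀).2
    obtain ⟨k, hk1, hk2⟩ := MulAction.is_two_pretransitive_iff.1 h2 hab hxy
    rw [hd, Nat.card_eq_fintype_card, ← Finset.card_univ]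
    have hm : ∀ g : G, g • x = y ∧ g • y = x →
        k⁻¹ * (g₀⁻¹ * g) * k ∈ stabilizer G a ⊓ stabilizer G b := by
      rintro g ⟨e1, e2⟩
      refine ⟨?_, ?_⟩ <;> show _ • _ = _
      · rw [mul_smul, mul_smul, hk1, mul_smul, e1, ← h1, inv_smul_smul, ← hk1, inv_smul_smul]
      · rw [mul_smul, mul_smul, hk2, mul_smul, e2, ← h2', inv_smul_smul, ← hk2, inv_smul_smul]
    refine Finset.card_le_card_of_injOn (fun g => if h : g • x = y ∧ g • y = x then ⟨_, hm g h⟩ else 1)
      (fun _ _ => Finset.mem_univ _) ?_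
    intro g hg g' hg' e
    simp only [S, Finset.coe_filter, Finset.mem_univ, true_and, Set.mem_ofPred_eq] at hg hg'
    simp only [dif_pos hg, dif_pos hg'] at e
    exact mul_left_cancel (mul_left_cancel (mul_right_cancel (congrArg Subtype.val e)))
  have h1 : I.card * M ≤ ∑ g ∈ I, (Finset.univ.filter (fun x : Ω => g • x ≠ x)).card := by
    rw [← smul_eq_mul, ← Finset.sum_const]
    exact Finset.sum_le_sum hmove
  have h3 : ∑ g ∈ I, (Finset.univ.filter (fun x : Ω => g • x ≠ x)).card ≤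
      ∑ q ∈ (Finset.univ.offDiag : Finset (Ω × Ω)), (I.filter (fun g => g ∈ S q)).card := by
    rw [← Finset.card_sigma, ← Finset.card_sigma]
    refine Finset.card_le_card_of_injOn (fun s : (_ : G) × Ω => (⟨(s.2, s.1 • s.2), s.1⟩ : (_ : Ω × Ω) × G)) ?_ ?_
    · intro s hs
      obtain ⟨hs1, hs2⟩ := Finset.mem_sigma.1 hs
      refine Finset.mem_sigma.2 ⟨Finset.mem_offDiag.2 ⟨Finset.mem_univ _, Finset.mem_univ _,
        Ne.symm (Finset.mem_filter.1 hs2).2⟩, ?_⟩
      exact Finset.mem_filter.2 ⟨hs1, Finset.mem_filter.2 ⟨Finset.mem_univ _, rfl, hinv _ hs1 _⟩⟩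
    · rintro ⟨g, x⟩ _ ⟨g', x'⟩ _ e
      simp only [Sigma.mk.inj_iff, heq_eq_eq, Prod.mk.injEq] at e
      obtain ⟨⟨rfl, -⟩, rfl⟩ := e
      rfl
  have h4 : ∑ q ∈ (Finset.univ.offDiag : Finset (Ω × Ω)), (I.filter (fun g => g ∈ S q)).card <
      ∑ _q ∈ (Finset.univ.offDiag : Finset (Ω × Ω)), d := by
    refine Finset.sum_lt_sum (fun q hq => le_trans (Finset.card_le_card fun g hg => (Finset.mem_filter.1 hg).2) (hswap q hq))
      ⟨(a, b), Finset.mem_offDiag.2 ⟨Finset.mem_univ _, Finset.mem_univ _, hab⟩, ?_⟩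
    refine lt_of_lt_of_le (Finset.card_lt_card ?_)
      (hswap (a, b) (Finset.mem_offDiag.2 ⟨Finset.mem_univ _, Finset.mem_univ _, hab⟩))
    rw [Finset.ssubset_iff]
    refine ⟨g₁, fun h => hg (Finset.mem_filter.1 h).1, ?_⟩
    intro g hg'
    rcases Finset.mem_insert.1 hg' with rfl | hg'
    · exact Finset.mem_filter.2 ⟨Finset.mem_univ _, hga, hgb⟩
    · exact (Finset.mem_filter.1 hg').2
  rw [Finset.sum_const, smul_eq_mul] at h4
  omega

/-- If all interchanging elements are involutions, the two-point stabiliser is inverted and abelian. -/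
theorem inverted_of_swappers {a b : Ω}
    (hall : ∀ g : G, g • a = b → g • b = a → g * g = 1) {t : G} (hta : t • a = b) (htb : t • b = a) :
    (∀ h ∈ stabilizer G a ⊓ stabilizer G b, t * h * t⁻¹ = h⁻¹) ∧
      ∀ h ∈ stabilizer G a ⊓ stabilizer G b, ∀ k ∈ stabilizer G a ⊓ stabilizer G b, h * k = k * h := by
  have hti : t⁻¹ = t := inv_eq_of_mul_eq_one_right (hall t hta htb)
  have h1 : ∀ h ∈ stabilizer G a ⊓ stabilizer G b, t * h * t⁻¹ = h⁻¹ := by
    intro h hh
    have := hall (t * h) (by rw [mul_smul, show h • a = a from hh.1, hta])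
      (by rw [mul_smul, show h • b = b from hh.2, htb])
    rw [hti]
    exact eq_inv_of_mul_eq_one_left (by rw [← this]; group)
  refine ⟨h1, fun h hh k hk => ?_⟩
  have h3 := h1 (h * k) (mul_mem hh hk)
  rw [show t * (h * k) * t⁻¹ = (t * h * t⁻¹) * (t * k * t⁻¹) by group, h1 h hh, h1 k hk,
    mul_inv_rev] at h3
  have := congrArg (·⁻¹) h3
  simpa using this.symm

end CfsgLib.Perm.ZSwap
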