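import Cfsg.Agent.Lib.Perm.Zassenhaus.Recog
import Cfsg.Agent.Lib.Perm.Zassenhaus.Swap
import Cfsg.Agent.Lib.Perm.Zassenhaus.Frame
import Cfsg.Agent.Lib.Perm.Groups.SharplyTwo

/-!
# Sharply triply transitive groups of odd degree
-/

set_option autoImplicit false
set_option linter.unusedSectionVars false
set_option linter.style.haveILetI false

namespace CfsgLib.Perm.ZOdd

open MulAction CfsgLib.Perm

variable {α : Type*} [Fintype α] [DecidableEq α] {G : Subgroup (Equiv.Perm α)}

/-- The embedding of three distinct points. -/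
theorem exists_emb {β : Type*} {a b c : β} (hab : a ≠ b) (hac : a ≠ c) (hbc : b ≠ c) :
    ∃ e : Fin 3 ↪ β, e 0 = a ∧ e 1 = b ∧ e 2 = c := by
  refine ⟨⟨![a, b, c], fun i j h => ?_⟩, rfl, rfl, rfl⟩
  fin_cases i <;> fin_cases j <;> first
    | rfl
    | exact absurd h hab | exact absurd h.symm hab | exact absurd h hac | exact absurd h.symm hac
    | exact absurd h hbc | exact absurd h.symm hbc

theorem eq_one_of_three (hsharp : ∀ x : Fin 3 ↪ α, stabilizer G x = ⊥) {g : G} {a b c : α} (hab : a ≠ b)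
    (hac : a ≠ c) (hbc : b ≠ c) (ha : g • a = a) (hb : g • b = b) (hc : g • c = c) : g = 1 := by
  let e : Fin 3 ↪ α := ⟨![a, b, c], fun i j h => by fin_cases i <;> fin_cases j <;> simp_all⟩
  have h : g ∈ stabilizer G e := by
    rw [mem_stabilizer_iff]
    ext i
    fin_cases i
    · exact ha
    · exact hb
    · exact hc
  rwa [hsharp e, Subgroup.mem_bot] at h

/-- The regular normal subgroup of a point stabiliser. -/
theorem point_kernel (h3 : IsMultiplyPretransitive G α 3) (hsharp : ∀ x : Fin 3 ↪ α, stabilizer G x = ⊥)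
    (hn : 3 ≤ Fintype.card α) (a : α) :
    ∃ (p : ℕ) (F : Subgroup G), p.Prime ∧ F ≤ stabilizer G a ∧
      (∀ h ∈ stabilizer G a, ∀ u ∈ F, h * u * h⁻¹ ∈ F) ∧
      (∀ y w : α, y ≠ a → w ≠ a → ∃! u : F, (u : G) • y = w) ∧
      (∀ u ∈ F, ∀ v ∈ F, u * v = v * u) ∧ (∀ u ∈ F, u ^ p = 1) ∧
      Nat.card (stabilizer G a) = (Fintype.card α - 1) * (Fintype.card α - 2) := by
  classical
  let r : stabilizer G a →* Equiv.Perm {x : α // x ≠ a} :=
    { toFun := fun g => (MulAction.toPerm (g : G) : Equiv.Perm α).subtypePerm fun x => by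
        show (g : G) • x ≠ a ↔ x ≠ a
        refine not_congr ⟨fun h => MulAction.injective (g : G) (h.trans g.2.symm), fun h => by rw [h]; exact g.2⟩
      map_one' := Equiv.ext fun x => Subtype.ext (one_smul G (x : α))
      map_mul' := fun g h => Equiv.ext fun x => Subtype.ext (mul_smul (g : G) (h : G) (x : α)) }
  have hr : ∀ g x, ((r g x : {x : α // x ≠ a}) : α) = (g : G) • (x : α) := fun _ _ => rfl
  have hcardβ : Fintype.card {x : α // x ≠ a} = Fintype.card α - 1 := by
    rw [Fintype.card_subtype_compl, Fintype.card_subtype_eq]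
  obtain ⟨x₀, y₀, hxy₀⟩ := Fintype.exists_pair_of_one_lt_card (α := {x : α // x ≠ a}) (by omega)
  have hrinj : Function.Injective r := by
    rw [injective_iff_map_eq_one]
    intro g hg
    have h1 : ∀ x : {x : α // x ≠ a}, (g : G) • (x : α) = x := fun x => by rw [← hr, hg]; rfl
    exact Subtype.ext (eq_one_of_three hsharp (Ne.symm x₀.2) (Ne.symm y₀.2) (fun e => hxy₀ (Subtype.ext e)) g.2
      (h1 x₀) (h1 y₀))
  have h2t : IsMultiplyPretransitive r.range {x : α // x ≠ a} 2 := by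
    rw [MulAction.is_two_pretransitive_iff]
    intro x y u v hxy huv
    obtain ⟨e₁, h10, h11, h12⟩ := exists_emb (Ne.symm x.2) (Ne.symm y.2) (fun e => hxy (Subtype.ext e))
    obtain ⟨e₂, h20, h21, h22⟩ := exists_emb (Ne.symm u.2) (Ne.symm v.2) (fun e => huv (Subtype.ext e))
    obtain ⟨g, hg⟩ := MulAction.exists_smul_eq G e₁ e₂
    have hgi : ∀ i, g • e₁ i = e₂ i := fun i => congrArg (fun e : Fin 3 ↪ α => e i) hg
    have hga : g • a = a := by rw [← h10, hgi, h20, h10]
    refine ⟨⟨r ⟨g, hga⟩, _, rfl⟩, Subtype.ext ?_, Subtype.ext ?_⟩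
    · show g • (x : α) = u
      rw [← h11, hgi, h21]
    · show g • (y : α) = v
      rw [← h12, hgi, h22]
  have hs2 : ∀ x : Fin 2 ↪ {x : α // x ≠ a}, stabilizer r.range x = ⊥ := by
    intro e
    rw [eq_bot_iff]
    rintro ⟨_, g, rfl⟩ hg
    rw [Subgroup.mem_bot]
    apply Subtype.ext
    show r g = 1
    rw [show g = 1 from Subtype.ext (eq_one_of_three hsharp (Ne.symm (e 0).2) (Ne.symm (e 1).2)
      (fun h => absurd (e.injective (Subtype.ext h)) (by decide)) g.2
      (congrArg (fun f : Fin 2 ↪ {x : α // x ≠ a} => ((f 0 : {x : α // x ≠ a}) : α)) hg)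
      (congrArg (fun f : Fin 2 ↪ {x : α // x ≠ a} => ((f 1 : {x : α // x ≠ a}) : α)) hg)), map_one]
  obtain ⟨p, K, hp, hKn, hKc, hKp, -, hKreg, hcard⟩ := CfsgLib.Perm.Groups.sharp_two_kernel h2t hs2 (by omega)
  let F : Subgroup G := (K.comap r.rangeRestrict).map (stabilizer G a).subtype
  have hmem : ∀ g : stabilizer G a, (g : G) ∈ F ↔ r.rangeRestrict g ∈ K := fun g =>
    Subgroup.mem_map_iff_mem (stabilizer G a).subtype_injective
  have hrr : Function.Injective r.rangeRestrict := fun g h e => hrinj (congrArg Subtype.val e)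
  refine ⟨p, F, hp, Subgroup.map_subtype_le _, ?_, ?_, ?_, ?_, ?_⟩
  · rintro h hh _ ⟨u, hu, rfl⟩
    rw [show h * (stabilizer G a).subtype u * h⁻¹ = ((⟨h, hh⟩ * u * ⟨h, hh⟩⁻¹ : stabilizer G a) : G) from rfl,
      hmem, map_mul, map_mul, map_inv]
    exact hKn.conj_mem _ hu _
  · intro y w hy hw
    obtain ⟨⟨⟨_, g, rfl⟩, hk⟩, hky, huniq⟩ := hKreg ⟨y, hy⟩ ⟨w, hw⟩
    have hgF : (g : G) ∈ F := (hmem g).2 hk
    refine ⟨⟨g, hgF⟩, congrArg Subtype.val hky, ?_⟩
    rintro ⟨_, u, hu, rfl⟩ hu'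
    have h := huniq ⟨r.rangeRestrict u, hu⟩ (Subtype.ext hu')
    exact Subtype.ext (congrArg (fun k : stabilizer G a => (k : G)) (hrr (congrArg Subtype.val h)))
  · rintro _ ⟨u, hu, rfl⟩ _ ⟨v, hv, rfl⟩
    rw [← map_mul, ← map_mul]
    exact congrArg _ (hrr (by rw [map_mul, map_mul, hKc _ hu _ hv]))
  · rintro _ ⟨u, hu, rfl⟩
    rw [← map_pow, show u ^ p = 1 from hrr (by rw [map_pow, hKp _ hu, map_one]), map_one]
  · rw [Nat.card_congr (MonoidHom.ofInjective hrinj).toEquiv, hcard, hcardβ]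
    congr 1

/-- Sharply triply transitive groups of degree `2 ^ f + 1` are `PGL(2, 2 ^ f)`. -/
theorem iso_pgl {f : ℕ} (hf : 1 ≤ f) (hα : Fintype.card α = 2 ^ f + 1) (h3 : IsMultiplyPretransitive G α 3)
    (hsharp : ∀ x : Fin 3 ↪ α, stabilizer G x = ⊥) :
    ∃ (K : Type) (_ : Field K) (_ : Fintype K), Fintype.card K = 2 ^ f ∧
      Nonempty (G ≃* Matrix.ProjGenLinGroup (Fin 2) K) := by
  classical
  haveI : Fintype G := Fintype.ofFinite G
  have hn2 : 2 ≤ 2 ^ f := by
    calc 2 = 2 ^ 1 := rfl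
      _ ≤ 2 ^ f := Nat.pow_le_pow_right two_pos hf
  haveI := h3
  haveI h2 : IsMultiplyPretransitive G α 2 := MulAction.isMultiplyPretransitive_of_le (n := 3) (by norm_num) (by
    rw [Nat.card_eq_fintype_card, hα]; omega)
  haveI : IsPretransitive G α := MulAction.isPretransitive_of_is_two_pretransitive
  obtain ⟨a, b, hab⟩ := Fintype.exists_pair_of_one_lt_card (show 1 < Fintype.card α by omega)
  obtain ⟨p, F, hp, hFle, hnorm, hreg, hFc, hexp, hstab⟩ := point_kernel h3 hsharp (by omega) a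
  have hne : ∀ u : F, (u : G) • b ≠ a := fun u e => hab (by
    have h' : (u : G) • a = a := hFle u.2
    exact (smul_left_cancel _ (h'.trans e.symm)))
  have hcardF : Nat.card F = 2 ^ f := by
    have hb : Function.Bijective (fun u : F => (⟨(u : G) • b, hne u⟩ : {z : α // z ≠ a})) :=
      ⟨fun u v e => (hreg b _ hab.symm (hne v)).unique (congrArg Subtype.val e) rfl,
        fun z => ⟨(hreg b z hab.symm z.2).exists.choose, Subtype.ext (hreg b z hab.symm z.2).exists.choose_spec⟩⟩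
    rw [Nat.card_eq_of_bijective _ hb, Nat.card_eq_fintype_card, Fintype.card_subtype_compl,
      Fintype.card_subtype_eq]
    omega
  have hp2 : p = 2 := by
    haveI : Fact (Nat.Prime 2) := ⟨Nat.prime_two⟩
    obtain ⟨u, hu⟩ := exists_prime_orderOf_dvd_card' (G := F) 2 (hcardF ▸ dvd_pow_self 2 (by omega))
    have h1 : orderOf u ∣ p := orderOf_dvd_of_pow_eq_one (Subtype.ext (hexp u u.2))
    rw [hu] at h1
    exact ((Nat.prime_dvd_prime_iff_eq Nat.prime_two hp).1 h1).symm
  subst hp2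
  -- the two-point stabiliser
  obtain ⟨d, hd⟩ : ∃ d, d = Nat.card ↥(stabilizer G a ⊓ stabilizer G b) := ⟨_, rfl⟩
  have horbit : ∀ y, y ≠ a → ∃ g : stabilizer G a, (g : G) • b = y := fun y hy => by
    obtain ⟨u, hu, -⟩ := hreg b y hab.symm hy
    exact ⟨⟨u, hFle u.2⟩, hu⟩
  have hdval : d + 1 = 2 ^ f := by
    choose g hg using fun y : {z : α // z ≠ a} => horbit y y.2
    have hb : Function.Bijective (fun q : {z : α // z ≠ a} × ↥(stabilizer G a ⊓ stabilizer G b) =>
        (g q.1 * ⟨q.2, q.2.2.1⟩ : stabilizer G a)) := by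
      constructor
      · rintro ⟨y, h⟩ ⟨y', h'⟩ e
        have e' := congrArg (fun k : stabilizer G a => (k : G) • b) e
        simp only [Subgroup.coe_mul, mul_smul, show (h : G) • b = b from h.2.2, show (h' : G) • b = b from h'.2.2, hg] at e'
        obtain rfl := Subtype.ext e'
        simp only at e
        exact Prod.ext rfl (Subtype.ext (congrArg (fun k : stabilizer G a => (k : G)) (mul_left_cancel e)))
      · intro k
        have hka : (k : G) • b ≠ a := fun e => hab ((smul_left_cancel (k : G) ((show (k : G) • a = a from k.2).trans e.symm)))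
        refine ⟨(⟨_, hka⟩, ⟨((g ⟨_, hka⟩)⁻¹ * k : stabilizer G a), ((g ⟨_, hka⟩)⁻¹ * k : stabilizer G a).2, ?_⟩),
          Subtype.ext (by show (g ⟨_, hka⟩ : G) * ((g ⟨_, hka⟩ : G)⁻¹ * k) = k; group)⟩
        show ((g ⟨_, hka⟩ : G)⁻¹ * k) • b = b
        rw [mul_smul, inv_smul_eq_iff, hg]
    have h := Nat.card_eq_of_bijective _ hb
    rw [hstab, Nat.card_prod, Nat.card_eq_fintype_card (α := {z : α // z ≠ a}), Fintype.card_subtype_compl,
      Fintype.card_subtype_eq, ← hd, hα] at h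
    have := Nat.eq_of_mul_eq_mul_left (by omega) h
    omega
  have hodd : ∀ x y : α, x ≠ y → ∀ g : G, g • x = x → g • y = y → orderOf g ≠ 2 := by
    intro x y hxy g hx hy ho
    obtain ⟨k, hk1, hk2⟩ := MulAction.is_two_pretransitive_iff.1 h2 hxy hab
    have hm : k * g * k⁻¹ ∈ stabilizer G a ⊓ stabilizer G b := by
      refine ⟨?_, ?_⟩ <;> show _ • _ = _
      · rw [← hk1, mul_smul, mul_smul, inv_smul_smul, hx]
      · rw [← hk2, mul_smul, mul_smul, inv_smul_smul, hy]
    have h1 := Subgroup.orderOf_dvd_natCard _ hm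
    rw [← MulAut.conj_apply, MulEquiv.orderOf_eq, ho,
      ← hd] at h1
    obtain ⟨r, hr⟩ := dvd_pow_self 2 (show f ≠ 0 by omega)
    omega
  let I : Finset G := Finset.univ.filter (fun g => orderOf g = 2)
  have hI : I.card ≥ (2 ^ f + 1) * d := by
    choose k hk using fun w : α => MulAction.exists_smul_eq G a w
    haveI : Fintype F := Fintype.ofFinite F
    let S : Finset (α × F) := Finset.univ ×ˢ Finset.univ.erase (1 : F)
    have hS : S.card = (2 ^ f + 1) * d := by
      rw [Finset.card_product, Finset.card_univ, hα, Finset.card_erase_of_mem (Finset.mem_univ _), Finset.card_univ,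
        ← Nat.card_eq_fintype_card, hcardF, ← hdval, Nat.add_sub_cancel]
    rw [ge_iff_le, ← hS]
    refine Finset.card_le_card_of_injOn (fun q => k q.1 * (q.2 : G) * (k q.1)⁻¹) ?_ ?_
    · intro q hq
      have hu1 : q.2 ≠ 1 := (Finset.mem_erase.1 (Finset.mem_product.1 hq).2).1
      refine Finset.mem_filter.2 ⟨Finset.mem_univ _, ?_⟩
      show orderOf (MulAut.conj (k q.1) (q.2 : G)) = 2
      rw [MulEquiv.orderOf_eq]
      exact orderOf_eq_prime (hexp _ q.2.2) fun e => hu1 (Subtype.ext e)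
    · intro q hq q' hq' e
      have hu1 : q.2 ≠ 1 := (Finset.mem_erase.1 (Finset.mem_product.1 hq).2).1
      have hfixw : ∀ (q : α × F), (k q.1 * (q.2 : G) * (k q.1)⁻¹) • q.1 = q.1 := fun q => by
        rw [mul_smul, mul_smul, inv_smul_eq_iff.2 (hk q.1).symm, show (q.2 : G) • a = a from hFle q.2.2, hk]
      have h1 : q.1 = q'.1 := by
        by_contra hne'
        refine hodd _ _ hne' (k q.1 * (q.2 : G) * (k q.1)⁻¹) (hfixw q) (by simp only at e; rw [e]; exact hfixw q') ?_
        show orderOf (MulAut.conj (k q.1) (q.2 : G)) = 2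
        rw [MulEquiv.orderOf_eq]
        exact orderOf_eq_prime (hexp _ q.2.2) fun e => hu1 (Subtype.ext e)
      refine Prod.ext h1 (Subtype.ext ?_)
      simp only at e
      rw [h1] at e
      exact mul_left_cancel (mul_right_cancel e)
  have hall : ∀ g : G, g • a = b → g • b = a → g * g = 1 := by
    intro g hga hgb
    have hm := ZSwap.all_swappers h2 hab I (2 ^ f) (fun g hg x => by
      rw [← mul_smul, ← pow_two, ← (Finset.mem_filter.1 hg).2, pow_orderOf_eq_one, one_smul]) (fun g hg => by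
      have := Finset.card_filter_add_card_filter_not (s := (Finset.univ : Finset α)) (fun x : α => g • x = x)
      have h4 : (Finset.univ.filter (fun x : α => g • x = x)).card ≤ 1 := Finset.card_le_one.2 fun x hx y hy => by
        by_contra hxy
        exact hodd x y hxy g (Finset.mem_filter.1 hx).2 (Finset.mem_filter.1 hy).2 (Finset.mem_filter.1 hg).2
      rw [Finset.card_univ, hα] at this
      simp only [ne_eq]
      omega) (by
      rw [Finset.offDiag_card, Finset.card_univ, hα, ← hd]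
      refine le_trans (le_of_eq ?_) (Nat.mul_le_mul_right _ hI)
      rw [← Nat.mul_sub_one, Nat.add_sub_cancel]
      ring) hga hgb
    rw [← pow_two, ← (Finset.mem_filter.1 hm).2, pow_orderOf_eq_one]
  obtain ⟨t, hta, htb⟩ := MulAction.is_two_pretransitive_iff.1 h2 hab hab.symm
  obtain ⟨hinvert, hHc⟩ := ZSwap.inverted_of_swappers hall hta htb
  obtain ⟨z, hz⟩ : ∃ z : α, t • z = z := by
    haveI : Fact (Nat.Prime 2) := ⟨Nat.prime_two⟩
    obtain ⟨z, hz⟩ := Equiv.Perm.exists_fixed_point_of_prime (p := 2) (n := 1) (σ := (t : Equiv.Perm α))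
      (by rw [hα]; obtain ⟨r, hr⟩ := dvd_pow_self 2 (show f ≠ 0 by omega); omega)
      (by rw [pow_one, pow_two, ← Subgroup.coe_mul, hall t hta htb]; rfl)
    exact ⟨z, hz⟩
  have hza : z ≠ a := fun e => hab (by rw [← hta]; exact e ▸ hz.symm)
  have hzb : z ≠ b := fun e => hab.symm (by rw [← htb]; exact e ▸ hz.symm)
  obtain ⟨K, hK, hKf, ⟨Fr⟩, hKcard⟩ := ZFrame.exists_frame (G := G) hab hza hzb F hFle
    (fun h hh u hu => hnorm h hh.1 u hu) hreg
    (fun h ha hb c hca hcb hc => eq_one_of_three hsharp hab (Ne.symm hca) (Ne.symm hcb) ha hb hc) hHc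
    (by rw [← hd]; omega) hFc Nat.prime_two hexp hcardF
  haveI : Fintype K := Fintype.ofFinite K
  have hsurj : Function.Surjective Fr.χ := by
    have hb : Function.Bijective Fr.χ := (Nat.bijective_iff_injective_and_card _).2 ⟨Fr.χinj, by
      rw [Nat.card_units, hKcard, ← hd]; omega⟩
    exact hb.2
  have hT : ∀ x : K, x ≠ 0 → ∃ y : K, y ≠ 0 ∧ t • Fr.φ x = Fr.φ y := by
    intro x hx
    have hne' : t • Fr.φ x ≠ a := fun e => hx (Fr.inj (by
      rw [Fr.zero]; exact smul_left_cancel t (e.trans htb.symm)))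
    obtain ⟨y, hy⟩ := Fr.surj _ hne'
    refine ⟨y, fun e => ?_, hy.symm⟩
    subst e
    rw [Fr.zero] at hy
    exact Fr.ne_a x (smul_left_cancel t (hy.symm.trans hta.symm))
  choose! T hT0 hT using hT
  have hT1 : T 1 = 1 := Fr.inj (by rw [← hT 1 one_ne_zero, Fr.one, hz])
  have hTall : ∀ x : K, x ≠ 0 → T x = x⁻¹ := by
    intro x hx
    obtain ⟨h, hh⟩ := hsurj (Units.mk0 x hx)
    have hx1 : Fr.φ x = (h : G) • Fr.φ 1 := by rw [Fr.act, hh]; simp
    have hth : t * (h : G) = ((h⁻¹ : ↥(stabilizer G a ⊓ stabilizer G b)) : G) * t := by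
      have := hinvert h h.2
      rw [mul_inv_eq_iff_eq_mul] at this
      simpa using this
    apply Fr.inj
    rw [← hT x hx, hx1, smul_smul, hth, mul_smul, hT 1 one_ne_zero, hT1, Fr.act, map_inv, hh, mul_one,
      Units.val_inv_eq_inv_val]
    rfl
  obtain ⟨E, hEa, hE⟩ := ZRecog.exists_lineEquiv Fr.φ Fr.inj Fr.ne_a Fr.surj
  have htr : ∀ s : K, Dickson.tr s ∈ ZRecog.realGrp (G := G) E := by
    intro s
    obtain ⟨g, hga, hg⟩ := Fr.trans s
    refine ⟨g, fun x => ?_⟩
    obtain rfl | ⟨x, rfl⟩ := Dickson.point_cases x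
    · rw [Dickson.tr_ip, hEa, hga]
    · rw [Dickson.tr_fp, hE, hE, hg]
  have hdi : ∀ u : Kˣ, Dickson.di u ∈ ZRecog.realGrp (G := G) E := by
    intro u
    obtain ⟨h, hh⟩ := hsurj u
    refine ⟨h, fun x => ?_⟩
    obtain rfl | ⟨x, rfl⟩ := Dickson.point_cases x
    · rw [Dickson.di_ip, hEa]; exact h.2.1
    · rw [Dickson.di_fp, hE, hE, Fr.act, hh]
  have hiv : Dickson.iv (1 : Kˣ) ∈ ZRecog.realGrp (G := G) E := by
    refine ⟨t, fun x => ?_⟩
    obtain rfl | ⟨x, rfl⟩ := Dickson.point_cases x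
    · rw [Dickson.iv_ip, hEa, hE, hta, Fr.zero]
    by_cases hx : x = 0
    · subst hx; rw [Dickson.iv_fp_zero, hEa, hE, Fr.zero, htb]
    · rw [Dickson.iv_fp _ hx, hE, hE, hT x hx, hTall x hx, Units.val_one, one_div]
  have hcard : Nat.card G ≤ Nat.card (Dickson.G2 K) := by
    rw [Dickson.card_G2, hKcard, ← Subgroup.card_mul_index (stabilizer G a),
      MulAction.index_stabilizer_of_transitive, hstab, Nat.card_eq_fintype_card, hα]
    exact le_of_eq (by rw [Nat.add_sub_cancel]; congr 2)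
  obtain ⟨i⟩ := ZRecog.equiv_pgl E htr hdi hiv hcard
  exact ⟨K, hK, inferInstance, by rw [← Nat.card_eq_fintype_card, hKcard], ⟨i⟩⟩

end CfsgLib.Perm.ZOdd
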