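import Cfsg.Agent.Lib.Perm.Dickson.Bridge

/-!
# Recognising `PSL(2)` and `PGL(2)` from their action on a line
-/

set_option autoImplicit false
set_option linter.all false

namespace CfsgLib.Perm.ZRecog

open CfsgLib.Perm.Dickson

variable {G Ω : Type*} [Group G] [MulAction G Ω] {K : Type*} [Field K] (e : P2 K ≃ Ω)

/-- The projectivities realised by a permutation group on a labelled line. -/
def realGrp : Subgroup (G2 K) where
  carrier := {σ | ∃ g : G, ∀ x : P2 K, g • e x = e (σ • x)}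
  one_mem' := ⟨1, fun x => by rw [one_smul, one_smul]⟩
  mul_mem' := by
    rintro σ τ ⟨g, hg⟩ ⟨k, hk⟩
    exact ⟨g * k, fun x => by rw [mul_smul, mul_smul, hk, hg]⟩
  inv_mem' := by
    rintro σ ⟨g, hg⟩
    exact ⟨g⁻¹, fun x => by rw [inv_smul_eq_iff, hg, smul_inv_smul]⟩

theorem mem_realGrp {σ : G2 K} : σ ∈ realGrp (G := G) e ↔ ∃ g : G, ∀ x : P2 K, g • e x = e (σ • x) := Iff.rfl

variable [Finite G] [FaithfulSMul G Ω] [Finite K]

theorem nonempty_equiv_of_le {M : Subgroup (G2 K)} (hM : M ≤ realGrp (G := G) e)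
    (hcard : Nat.card G ≤ Nat.card M) : Nonempty (G ≃* M) := by
  choose f hf using fun σ : M => hM σ.2
  have huniq : ∀ g k : G, (∀ x : P2 K, g • e x = k • e x) → g = k := fun g k h =>
    eq_of_smul_eq_smul (α := Ω) fun y => by
      obtain ⟨x, rfl⟩ := e.surjective y
      exact h x
  let F : M →* G :=
    { toFun := f
      map_one' := huniq _ _ fun x => by rw [hf, one_smul]; simp
      map_mul' := fun σ τ => huniq _ _ fun x => by rw [mul_smul, hf, hf, hf, Subgroup.coe_mul, mul_smul] }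
  have hinj : Function.Injective F := fun σ τ h => Subtype.ext (ext_fp
    (e.injective (by rw [← hf, ← hf]; exact congrArg (· • e ip) h))
    fun z => e.injective (by rw [← hf, ← hf]; exact congrArg (· • e (fp z)) h))
  have hb : Function.Bijective F := by
    haveI := finite_G2 (F := K)
    refine (Nat.bijective_iff_injective_and_card F).2 ⟨hinj, le_antisymm ?_ hcard⟩
    exact Nat.card_le_card_of_injective F hinj
  exact ⟨(MulEquiv.ofBijective F hb).symm⟩

/-- Recognition of `PGL(2)`. -/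
theorem equiv_pgl (htr : ∀ t : K, tr t ∈ realGrp (G := G) e) (hdi : ∀ u : Kˣ, di u ∈ realGrp (G := G) e)
    (hiv : iv (1 : Kˣ) ∈ realGrp (G := G) e) (hcard : Nat.card G ≤ Nat.card (G2 K)) :
    Nonempty (G ≃* G2 K) := by
  have htop : (⊤ : Subgroup (G2 K)) ≤ realGrp (G := G) e := by
    intro g _
    have hfix : ∀ k : G2 K, k • (ip : P2 K) = ip → k ∈ realGrp (G := G) e := by
      intro k hk
      obtain ⟨t, u, rfl⟩ := exists_of_fix_ip hk
      exact mul_mem (htr t) (hdi u)
    obtain h | ⟨z, hz⟩ := point_cases (g • (ip : P2 K))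
    · exact hfix g h
    · have h1 : iv (1 : Kˣ) * tr (-z) * g ∈ realGrp (G := G) e := hfix _ (by
        rw [mul_smul, mul_smul, hz, tr_fp, add_neg_cancel, iv_fp_zero])
      have h2 := mul_mem (inv_mem (mul_mem hiv (htr (-z)))) h1
      rwa [inv_mul_cancel_left] at h2
  obtain ⟨i⟩ := nonempty_equiv_of_le e htop (by rw [Subgroup.card_top]; exact hcard)
  exact ⟨i.trans Subgroup.topEquiv⟩

/-- Recognition of `PSL(2)`. -/
theorem equiv_psl (htr : ∀ t : K, tr t ∈ realGrp (G := G) e)
    (hdi : ∀ u : Kˣ, IsSquare (u : K) → di u ∈ realGrp (G := G) e)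
    (hiv : iv (-1 : Kˣ) ∈ realGrp (G := G) e) (hcard : Nat.card G ≤ Nat.card (psl K)) :
    Nonempty (G ≃* S2P K) := by
  have hle : psl K ≤ realGrp (G := G) e := by
    intro g hg
    have hfix : ∀ k : G2 K, k ∈ psl K → k • (ip : P2 K) = ip → k ∈ realGrp (G := G) e := by
      intro k hkp hk
      obtain ⟨t, u, rfl⟩ := exists_of_fix_ip hk
      refine mul_mem (htr t) (hdi u ((di_mem_psl_iff u).1 ?_))
      have := mul_mem (inv_mem (tr_mem_psl t)) hkp
      rwa [inv_mul_cancel_left] at this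
    obtain h | ⟨z, hz⟩ := point_cases (g • (ip : P2 K))
    · exact hfix g hg h
    · have h1 : iv (-1 : Kˣ) * tr (-z) * g ∈ realGrp (G := G) e :=
        hfix _ (mul_mem (mul_mem iv_neg_one_mem_psl (tr_mem_psl _)) hg) (by
          rw [mul_smul, mul_smul, hz, tr_fp, add_neg_cancel, iv_fp_zero])
      have h2 := mul_mem (inv_mem (mul_mem hiv (htr (-z)))) h1
      rwa [inv_mul_cancel_left] at h2
  obtain ⟨i⟩ := nonempty_equiv_of_le e hle hcard
  exact ⟨i.trans (pslEquiv K).symm⟩

/-- The labelling of the line by an affine coordinate map. -/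
theorem exists_lineEquiv {a : Ω} (φ : K → Ω) (hinj : Function.Injective φ) (hne : ∀ x, φ x ≠ a)
    (hsurj : ∀ y, y ≠ a → ∃ x, φ x = y) : ∃ e : P2 K ≃ Ω, e ip = a ∧ ∀ x, e (fp x) = φ x := by
  classical
  have hex : ∀ x : P2 K, ∃ y : Ω, (x = ip → y = a) ∧ ∀ z, x = fp z → y = φ z := by
    intro x
    obtain rfl | ⟨z, rfl⟩ := point_cases x
    · exact ⟨a, fun _ => rfl, fun z h => absurd h (ip_ne_fp z)⟩
    · exact ⟨φ z, fun h => absurd h (fp_ne_ip z), fun w h => by rw [fp_inj h]⟩
  choose f hf1 hf2 using hex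
  have hb : Function.Bijective f := by
    constructor
    · intro x y h
      obtain rfl | ⟨z, rfl⟩ := point_cases x <;> obtain rfl | ⟨w, rfl⟩ := point_cases y
      · rfl
      · rw [hf1 _ rfl, hf2 _ w rfl] at h; exact absurd h.symm (hne w)
      · rw [hf1 _ rfl, hf2 _ z rfl] at h; exact absurd h (hne z)
      · rw [hf2 _ z rfl, hf2 _ w rfl] at h; rw [hinj h]
    · intro y
      by_cases hy : y = a
      · exact ⟨ip, by rw [hf1 _ rfl, hy]⟩
      · obtain ⟨x, rfl⟩ := hsurj y hy
        exact ⟨fp x, hf2 _ x rfl⟩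
  exact ⟨Equiv.ofBijective f hb, hf1 _ rfl, fun x => hf2 _ x rfl⟩

end CfsgLib.Perm.ZRecog
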