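import Cfsg.Agent.Lib.Perm.Zassenhaus.Recog
import Cfsg.Agent.Lib.Perm.Zassenhaus.Swap
import Cfsg.Agent.Lib.Perm.Zassenhaus.Frame
import Cfsg.Agent.Lib.Char.ZassenhausOdd
import Cfsg.Agent.S0741

/-!
# Zassenhaus groups with two-point stabilisers of even order `(q - 1) / 2`
-/

set_option autoImplicit false
set_option linter.unusedSectionVars false
set_option linter.style.haveILetI false

namespace CfsgLib.Perm.ZEven

open MulAction CfsgLib.Perm

variable {G Ω : Type*} [Group G] [Finite G] [MulAction G Ω] [Fintype Ω]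

/-- The structure of a point kernel. -/
theorem kernel_data (hZ : Cfsg.IsZassenhausGroup G Ω) {a b : Ω} (hab : a ≠ b) :
    ∃ F : Subgroup G, F ≤ stabilizer G a ∧ (F.subgroupOf (stabilizer G a)).Normal ∧
      (∀ y w : Ω, y ≠ a → w ≠ a → ∃! u : F, (u : G) • y = w) ∧ Nat.card F + 1 = Fintype.card Ω := by
  classical
  obtain ⟨F, hFa, hFcard, hFfix⟩ := CfsgLib.Char.ZassenhausOdd.exists_point_kernel hZ hab
  refine ⟨F, hFa, Subgroup.normal_subgroupOf_of_le_normalizer (CfsgLib.Char.point_kernel_ti hZ a F hFa hFcard hFfix).2.ge,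
    fun y w hy hw => ?_, hFcard⟩
  have hne : ∀ u : F, (u : G) • y ≠ a := fun u e => hy (by
    have h' : (u : G) • a = a := hFa u.2
    exact smul_left_cancel _ (e.trans h'.symm))
  have hb : Function.Bijective (fun u : F => (⟨(u : G) • y, hne u⟩ : {x : Ω // x ≠ a})) := by
    refine (Nat.bijective_iff_injective_and_card _).2 ⟨fun u v e => ?_, ?_⟩
    · by_contra huv
      have e' : (u : G) • y = (v : G) • y := congrArg Subtype.val e
      refine hy (hFfix (v⁻¹ * u : F) (v⁻¹ * u : F).2 (fun h => huv ?_) y ?_)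
      · exact Subtype.ext (inv_mul_eq_one.1 h).symm
      · show ((v : G)⁻¹ * u) • y = y
        rw [mul_smul, e', inv_smul_smul]
    · rw [Nat.card_eq_fintype_card (α := {x : Ω // x ≠ a}), Fintype.card_subtype_compl, Fintype.card_subtype_eq]
      omega
  obtain ⟨u, hu⟩ := hb.2 ⟨w, hw⟩
  exact ⟨u, congrArg Subtype.val hu, fun v hv => hb.1 (Subtype.ext (hv.trans (congrArg Subtype.val hu).symm))⟩

/-- In a Zassenhaus group with large even two-point stabilisers of half size, every element interchanging two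
points is an involution with two fixed points. -/
theorem swappers (hZ : Cfsg.IsZassenhausGroup G Ω) {a b : Ω} (hab : a ≠ b)
    (heven : Even (Nat.card ↥(stabilizer G a ⊓ stabilizer G b)))
    (hd : 2 * Nat.card ↥(stabilizer G a ⊓ stabilizer G b) + 2 = Fintype.card Ω) {g₁ : G} (hga : g₁ • a = b)
    (hgb : g₁ • b = a) : g₁ * g₁ = 1 ∧ ∃ x y : Ω, x ≠ y ∧ g₁ • x = x ∧ g₁ • y = y := by
  classical
  obtain ⟨hfaith, h2, hthree, -, -⟩ := hZ
  haveI := hfaith
  haveI : Fintype G := Fintype.ofFinite G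
  haveI : Fact (Nat.Prime 2) := ⟨Nat.prime_two⟩
  obtain ⟨⟨t₀, ht₀⟩, ht₀o⟩ := exists_prime_orderOf_dvd_card' 2 (even_iff_two_dvd.1 heven)
  rw [← Subgroup.orderOf_coe] at ht₀o
  let fx : G → Finset Ω := fun g => Finset.univ.filter (fun x => g • x = x)
  let I : Finset G := Finset.univ.filter (fun g => orderOf g = 2 ∧ 2 ≤ (fx g).card)
  let D : Finset (Ω × Ω) := Finset.univ.offDiag
  have hI : ∀ g ∈ I, g ≠ 1 ∧ ∀ x : Ω, g • g • x = x := by
    intro g hg
    have ho := (Finset.mem_filter.1 hg).2.1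
    refine ⟨fun e => by rw [e, orderOf_one] at ho; omega, fun x => ?_⟩
    rw [← mul_smul, ← pow_two, ← ho, pow_orderOf_eq_one, one_smul]
  have hfx : ∀ g : G, g ≠ 1 → (fx g).card ≤ 2 := by
    intro g hg
    by_contra hc
    obtain ⟨x, hx, y, hy, z, hz, hxy, hxz, hyz⟩ := Finset.two_lt_card.1 (Nat.not_le.1 hc)
    exact hg (hthree g x y z hxy hyz hxz (Finset.mem_filter.1 hx).2 (Finset.mem_filter.1 hy).2 (Finset.mem_filter.1 hz).2)
  have hinv : ∀ q ∈ D, ∃ g ∈ I, g • q.1 = q.1 ∧ g • q.2 = q.2 := by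
    intro q hq
    obtain ⟨k, hk1, hk2⟩ := MulAction.is_two_pretransitive_iff.1 h2 hab (Finset.mem_offDiag.1 hq).2.2
    have e1 : (k * t₀ * k⁻¹) • q.1 = q.1 := by
      rw [← hk1, mul_smul, mul_smul, inv_smul_smul, show t₀ • a = a from ht₀.1]
    have e2 : (k * t₀ * k⁻¹) • q.2 = q.2 := by
      rw [← hk2, mul_smul, mul_smul, inv_smul_smul, show t₀ • b = b from ht₀.2]
    refine ⟨k * t₀ * k⁻¹, Finset.mem_filter.2 ⟨Finset.mem_univ _, ?_, ?_⟩, e1, e2⟩
    · rw [← MulAut.conj_apply, ← ht₀o]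
      exact orderOf_injective (MulAut.conj k).toMonoidHom (MulAut.conj k).injective t₀
    · exact Finset.one_lt_card.2 ⟨q.1, Finset.mem_filter.2 ⟨Finset.mem_univ _, e1⟩, q.2,
        Finset.mem_filter.2 ⟨Finset.mem_univ _, e2⟩, (Finset.mem_offDiag.1 hq).2.2⟩
  choose! f hf hf1 hf2 using hinv
  have hDI : D.card ≤ 2 * I.card := by
    refine Finset.card_le_mul_card_image_of_maps_to (f := f) (fun q hq => hf q hq) 2 fun g hg => ?_
    refine le_trans (Finset.card_le_card (t := (fx g).offDiag) fun q hq => ?_) ?_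
    · obtain ⟨hqD, rfl⟩ := Finset.mem_filter.1 hq
      exact Finset.mem_offDiag.2 ⟨Finset.mem_filter.2 ⟨Finset.mem_univ _, hf1 q hqD⟩,
        Finset.mem_filter.2 ⟨Finset.mem_univ _, hf2 q hqD⟩, (Finset.mem_offDiag.1 hqD).2.2⟩
    · rw [Finset.offDiag_card]
      have := hfx g (hI g hg).1
      have : 2 ≤ (fx g).card := (Finset.mem_filter.1 hg).2.2
      rw [show (fx g).card = 2 by omega]
  have hmem := ZSwap.all_swappers h2 hab I (2 * Nat.card ↥(stabilizer G a ⊓ stabilizer G b))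
    (fun g hg => (hI g hg).2) (fun g hg => by
      have := Finset.card_filter_add_card_filter_not (s := (Finset.univ : Finset Ω)) (fun x => g • x = x)
      have h4 : (fx g).card ≤ 2 := hfx g (hI g hg).1
      rw [Finset.card_univ] at this
      simp only [fx] at h4
      simp only [ne_eq]
      omega) (by
      rw [← mul_assoc, mul_comm I.card 2]
      exact Nat.mul_le_mul_right _ hDI) hga hgb
  obtain ⟨-, ho, hc⟩ := Finset.mem_filter.1 hmem
  obtain ⟨x, hx, y, hy, hxy⟩ := Finset.one_lt_card.1 hc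
  exact ⟨by rw [← pow_two, ← ho, pow_orderOf_eq_one], x, y, hxy, (Finset.mem_filter.1 hx).2,
    (Finset.mem_filter.1 hy).2⟩

/-- Zassenhaus groups with even two-point stabilisers of order at most half of `n - 1` are `PSL(2, n)`. -/
theorem iso_psl (hZ : Cfsg.IsZassenhausGroup G Ω) {a b : Ω} (hab : a ≠ b)
    (heven : Even (Nat.card ↥(stabilizer G a ⊓ stabilizer G b)))
    (hd : 2 * Nat.card ↥(stabilizer G a ⊓ stabilizer G b) ≤ Fintype.card Ω - 2) :
    ∃ (p f : ℕ) (K : Type) (_ : Field K) (_ : Fintype K), p.Prime ∧ p ≠ 2 ∧ Fintype.card K = p ^ f ∧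
      Fintype.card Ω = p ^ f + 1 ∧ Nonempty (G ≃* Matrix.ProjectiveSpecialLinearGroup (Fin 2) K) := by
  classical
  have hge := Cfsg.Agent.S0741.result hZ hab heven
  have h3 := CfsgLib.Char.zassenhaus_three_le hZ
  haveI := hZ.1
  haveI : Fintype G := Fintype.ofFinite G
  have hthree := hZ.2.2.1
  obtain ⟨d, hdd⟩ : ∃ d, d = Nat.card ↥(stabilizer G a ⊓ stabilizer G b) := ⟨_, rfl⟩
  have hd2 : 2 * Nat.card ↥(stabilizer G a ⊓ stabilizer G b) + 2 = Fintype.card Ω := by omega
  rw [← hdd] at hd hd2 hge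
  have hsw : ∀ g : G, g • a = b → g • b = a → g * g = 1 ∧ ∃ x y : Ω, x ≠ y ∧ g • x = x ∧ g • y = y :=
    fun g hga hgb => swappers hZ hab heven (hdd ▸ hd2) hga hgb
  obtain ⟨t, hta, htb⟩ := MulAction.is_two_pretransitive_iff.1 hZ.2.1 hab hab.symm
  obtain ⟨hinvert, hHc⟩ := ZSwap.inverted_of_swappers (fun g h h' => (hsw g h h').1) hta htb
  obtain ⟨htt, z, z', hzz, hz, -⟩ := hsw t hta htb
  have hza : z ≠ a := fun e => hab (by rw [← hta]; exact e ▸ hz.symm)
  have hzb : z ≠ b := fun e => hab.symm (by rw [← htb]; exact e ▸ hz.symm)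
  obtain ⟨F, hFle, hFn, hreg, hFcard⟩ := kernel_data hZ hab
  obtain ⟨hFc, p, f, hp, hexp, hpf⟩ := ZReg.regular_elementary hZ hab (by rw [← hdd]; exact hge) F hFle hFn hreg
  have hFpf : Nat.card F = p ^ f := by omega
  obtain ⟨e, he⟩ := heven
  rw [← hdd] at he
  have hp2 : p ≠ 2 := by
    rintro rfl
    rcases Nat.eq_zero_or_pos f with h | h
    · rw [h] at hpf; omega
    · have : 2 ∣ 2 ^ f := dvd_pow_self 2 (by omega)
      omega
  obtain ⟨K, hK, hKf, ⟨Fr⟩, hKcard⟩ := ZFrame.exists_frame (G := G) hab hza hzb F hFle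
    (fun h hh u hu => hFn.conj_mem ⟨u, hFle hu⟩ hu ⟨h, hh.1⟩) hreg
    (fun h ha hb c hca hcb hc => hthree h a b c hab (Ne.symm hcb) (Ne.symm hca) ha hb hc) hHc
    (by rw [← hdd]; omega) (fun u hu v hv => congrArg Subtype.val (hFc.is_comm.comm (⟨u, hu⟩ : F) ⟨v, hv⟩))
    hp hexp hFpf
  haveI : Fintype K := Fintype.ofFinite K
  have hq : Fintype.card K = p ^ f := by rw [← Nat.card_eq_fintype_card, hKcard]
  have hqd : Fintype.card K = 2 * d + 1 := by omega
  have hchar : ringChar K ≠ 2 := fun h2 => by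
    have := FiniteField.even_card_of_char_two h2
    omega
  -- the scalars are the squares
  have hpowd : ∀ h, (Fr.χ h) ^ d = 1 := fun h => by
    rw [← map_pow, show h ^ d = 1 by rw [hdd]; exact pow_card_eq_one', map_one]
  have hsq : ∀ u : Kˣ, IsSquare (u : K) ↔ ∃ h, Fr.χ h = u := by
    intro u
    have hiff : IsSquare (u : K) ↔ u ^ d = 1 := by
      rw [FiniteField.isSquare_iff hchar u.ne_zero, show Fintype.card K / 2 = d by omega,
        ← Units.val_pow_eq_pow_val, Units.val_eq_one]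
    rw [hiff]
    refine ⟨fun hu => ?_, fun ⟨h, hh⟩ => hh ▸ hpowd h⟩
    let S : Finset Kˣ := Finset.univ.filter (fun v => v ^ d = 1)
    haveI : Fintype ↥(stabilizer G a ⊓ stabilizer G b) := Fintype.ofFinite _
    have hS : S.card ≤ d := IsCyclic.card_pow_eq_one_le (by omega)
    have himg : Finset.univ.image Fr.χ = S := Finset.eq_of_subset_of_card_le
      (fun v hv => by
        obtain ⟨h, -, rfl⟩ := Finset.mem_image.1 hv
        exact Finset.mem_filter.2 ⟨Finset.mem_univ _, hpowd h⟩)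
      (by rw [Finset.card_image_of_injective _ Fr.χinj, Finset.card_univ, ← Nat.card_eq_fintype_card, ← hdd]; exact hS)
    have : u ∈ Finset.univ.image Fr.χ := himg ▸ Finset.mem_filter.2 ⟨Finset.mem_univ _, hu⟩
    obtain ⟨h, -, hh⟩ := Finset.mem_image.1 this
    exact ⟨h, hh⟩
  have hscal : ∀ s : K, s ≠ 0 → IsSquare s → ∃ h : G, h • a = a ∧ h • b = b ∧ ∀ x, h • Fr.φ x = Fr.φ (s * x) := by
    intro s hs hss
    obtain ⟨h, hh⟩ := (hsq (Units.mk0 s hs)).1 hss
    exact ⟨h, h.2.1, h.2.2, fun x => by rw [Fr.act, hh]; rfl⟩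
  -- the interchanging involution in coordinates
  have hT : ∀ x : K, x ≠ 0 → ∃ y : K, y ≠ 0 ∧ t • Fr.φ x = Fr.φ y := by
    intro x hx
    have hne : t • Fr.φ x ≠ a := fun e => hx (Fr.inj (by
      rw [Fr.zero]; exact smul_left_cancel t (e.trans htb.symm)))
    obtain ⟨y, hy⟩ := Fr.surj _ hne
    refine ⟨y, fun e => ?_, hy.symm⟩
    subst e
    rw [Fr.zero] at hy
    exact Fr.ne_a x (smul_left_cancel t (hy.symm.trans hta.symm))
  choose! T hT0 hT using hT
  have htt' : ∀ w : Ω, t • t • w = w := fun w => by rw [smul_smul, htt, one_smul]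
  have hTT : ∀ x, x ≠ 0 → T (T x) = x := fun x hx =>
    Fr.inj (by rw [← hT _ (hT0 x hx), ← hT x hx, htt'])
  have hTh : ∀ (s : K), s ≠ 0 → IsSquare s → ∀ x, x ≠ 0 → T (s * x) = s⁻¹ * T x := by
    intro s hs hss x hx
    obtain ⟨h, hh⟩ := (hsq (Units.mk0 s hs)).1 hss
    have hsv : s = (Fr.χ h : K) := by rw [hh]; rfl
    apply Fr.inj
    rw [← hT _ (mul_ne_zero hs hx), hsv, ← Fr.act, smul_smul]
    have hth : t * (h : G) = ((h⁻¹ : ↥(stabilizer G a ⊓ stabilizer G b)) : G) * t := by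
      have := hinvert h h.2
      rw [mul_inv_eq_iff_eq_mul] at this
      simpa using this
    rw [hth, mul_smul, hT x hx, Fr.act, map_inv, Units.val_inv_eq_inv_val]
  have hT1 : T 1 = 1 := Fr.inj (by rw [← hT 1 one_ne_zero, Fr.one, hz])
  have hTsq : ∀ s : K, s ≠ 0 → IsSquare s → T s = s⁻¹ := fun s hs hss => by
    have := hTh s hs hss 1 one_ne_zero
    rwa [mul_one, hT1, mul_one] at this
  obtain ⟨ν, hν⟩ := FiniteField.exists_nonsquare hchar
  have hν0 : ν ≠ 0 := fun h => hν (h ▸ IsSquare.zero)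
  obtain ⟨c, hc⟩ : ∃ c, c = ν * T ν := ⟨_, rfl⟩
  have hmulns : ∀ x : K, x ≠ 0 → ¬ IsSquare x → IsSquare (x / ν) := by
    intro x hx hxs
    have h1 := (FiniteField.isSquare_iff hchar hx).not.1 hxs
    have h2 := (FiniteField.isSquare_iff hchar hν0).not.1 hν
    have e1 := (FiniteField.pow_dichotomy hchar hx).resolve_left h1
    have e2 := (FiniteField.pow_dichotomy hchar hν0).resolve_left h2
    rw [FiniteField.isSquare_iff hchar (div_ne_zero hx hν0), div_pow, e1, e2, div_self (neg_ne_zero.2 one_ne_zero)]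
  have hTns : ∀ x : K, x ≠ 0 → ¬ IsSquare x → T x = c / x := by
    intro x hx hxs
    have h := hTh (x / ν) (div_ne_zero hx hν0) (hmulns x hx hxs) ν hν0
    rw [div_mul_cancel₀ x hν0] at h
    rw [h, hc, inv_div]
    field_simp
  have hm1 : IsSquare (-1 : K) := by
    rw [FiniteField.isSquare_iff hchar (neg_ne_zero.2 one_ne_zero), show Fintype.card K / 2 = e + e by omega]
    exact Even.neg_one_pow ⟨e, rfl⟩
  have hTodd : ∀ x, x ≠ 0 → T (-x) = -T x := fun x hx => by
    have := hTh (-1) (neg_ne_zero.2 one_ne_zero) hm1 x hx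
    simpa [inv_neg] using this
  -- the structure equation
  obtain ⟨τ, hτa, hτ⟩ := Fr.trans 1
  obtain ⟨τ', hτ'a, hτ'⟩ := Fr.trans (-1)
  have hkey : ∀ x : K, x ≠ 0 → 1 + x ≠ 0 → T (T x + 1) = 1 - T (1 + x) := by
    set g : G := t * τ * t with hg
    have hτb : τ • b = Fr.φ 1 := (congrArg (τ • ·) Fr.zero.symm).trans (by rw [hτ, zero_add])
    have hτ'b : τ' • b = Fr.φ (-1) := (congrArg (τ' • ·) Fr.zero.symm).trans (by rw [hτ', zero_add])
    have hga : g • a = Fr.φ 1 := by
      rw [hg, mul_smul, mul_smul, hta, hτb, hT 1 one_ne_zero, hT1]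
    have hgb : g • b = b := by rw [hg, mul_smul, mul_smul, htb, hτa, hta]
    have h1a : (t * τ' * g) • a = a := by
      rw [mul_smul, mul_smul, hga, hτ', add_neg_cancel, Fr.zero, htb]
    have h1b : (t * τ' * g) • b = Fr.φ (-1) := by
      rw [mul_smul, mul_smul, hgb, hτ'b, hT _ (neg_ne_zero.2 one_ne_zero), hTodd 1 one_ne_zero,
        hT1]
    have hk : τ * (t * τ' * g) ∈ stabilizer G a ⊓ stabilizer G b := by
      refine ⟨?_, ?_⟩ <;> show _ • _ = _
      · rw [mul_smul, h1a, hτa]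
      · rw [mul_smul, h1b, hτ, neg_add_cancel, Fr.zero]
    obtain ⟨s, hs⟩ : ∃ s : K, s = (Fr.χ ⟨_, hk⟩ : K) := ⟨_, rfl⟩
    have haff : ∀ x : K, τ • (t • τ' • (g • Fr.φ x)) = Fr.φ (s * x) := fun x => by
      rw [hs, ← Fr.act]; simp only [mul_smul]
    have hinv' : ∀ x : K, t • τ' • (g • Fr.φ x) = Fr.φ (s * x - 1) := fun x => by
      obtain ⟨y, hy⟩ : ∃ y, Fr.φ y = t • τ' • (g • Fr.φ x) := Fr.surj _ (fun e => Fr.ne_a (s * x) (by
        rw [← haff x, e, hτa]))
      have h := haff x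
      rw [← hy, hτ] at h
      rw [← hy]
      congr 1
      rw [← Fr.inj h, add_sub_cancel_right]
    have hs1 : s = -1 := by
      have h := hinv' (-1)
      rw [hg, mul_smul, mul_smul, hT _ (neg_ne_zero.2 one_ne_zero), hTodd 1 one_ne_zero, hT1, hτ,
        neg_add_cancel, Fr.zero, htb, hτ'a, hta] at h
      have := Fr.inj (Fr.zero.trans h)
      linear_combination this
    intro x hx hx1
    have hne : T x + 1 ≠ 0 := by
      intro h0
      have h : T x = -1 := eq_neg_of_add_eq_zero_left h0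
      have h' := hTT x hx
      rw [h, hTodd 1 one_ne_zero, hT1] at h'
      exact hx1 (by rw [← h']; ring)
    have h := hinv' x
    rw [hg, mul_smul, mul_smul, hT x hx, hτ, hT _ hne, hτ', hs1] at h
    have hne2 : -1 * x - 1 ≠ 0 := fun e => hx1 (by linear_combination -e)
    have h' := congrArg (t • ·) h
    rw [htt', hT _ hne2] at h'
    have h'' := Fr.inj h'
    rw [show -1 * x - 1 = -(1 + x) by ring, hTodd _ hx1] at h''
    linear_combination h''
  have hc1 : c = 1 := by
    by_contra hc1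
    have hclosed : ∀ x : K, IsSquare x → IsSquare (x + 1) := by
      intro x hxs
      by_cases hx : x = 0
      · subst hx; rw [zero_add]; exact IsSquare.one
      by_cases hx1 : 1 + x = 0
      · rw [add_comm, hx1]; exact IsSquare.zero
      by_contra hns
      have hTx := hTsq x hx hxs
      have hns1 : ¬ IsSquare (1 + x) := by rwa [add_comm]
      have hk := hkey x hx hx1
      have hval : T x + 1 = (1 + x) / x := by rw [hTx]; field_simp
      have hns2 : ¬ IsSquare ((1 + x) / x) := fun h => hns1 (by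
        have := h.mul hxs
        rwa [div_mul_cancel₀ _ hx] at this)
      rw [hval, hTns _ (div_ne_zero hx1 hx) hns2, hTns _ hx1 hns1] at hk
      field_simp at hk
      exact hc1 (mul_right_cancel₀ hx1 (by linear_combination hk))
    -- translation by one would permute the squares
    let Q : Finset K := Finset.univ.filter (fun x : K => IsSquare x)
    have hQ : Q.image (· + 1) = Q := Finset.eq_of_subset_of_card_le
      (fun y hy => by
        obtain ⟨x, hx, rfl⟩ := Finset.mem_image.1 hy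
        exact Finset.mem_filter.2 ⟨Finset.mem_univ _, hclosed x (Finset.mem_filter.1 hx).2⟩)
      (by rw [Finset.card_image_of_injective _ (add_left_injective (1 : K))])
    have hsum : ∑ x ∈ Q, (x + 1) = ∑ x ∈ Q, x := by
      conv_rhs => rw [← hQ]
      rw [Finset.sum_image fun x _ y _ h => add_left_injective 1 h]
    rw [Finset.sum_add_distrib, add_eq_left, Finset.sum_const, nsmul_one] at hsum
    have hQcard : Q.card = d + 1 := by
      haveI : Fintype ↥(stabilizer G a ⊓ stabilizer G b) := Fintype.ofFinite _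
      have e : Q = insert 0 (Finset.univ.image fun h => (Fr.χ h : K)) := by
        ext x
        simp only [Q, Finset.mem_filter, Finset.mem_univ, true_and, Finset.mem_insert, Finset.mem_image]
        constructor
        · intro hx
          by_cases h0 : x = 0
          · exact Or.inl h0
          · obtain ⟨h, hh⟩ := (hsq (Units.mk0 x h0)).1 hx
            exact Or.inr ⟨h, by rw [hh]; rfl⟩
        · rintro (rfl | ⟨h, rfl⟩)
          · exact IsSquare.zero
          · exact (hsq _).2 ⟨h, rfl⟩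
      rw [e, Finset.card_insert_of_notMem (by simp), Finset.card_image_of_injective _
        (fun g h e => Fr.χinj (Units.ext e)), Finset.card_univ, ← Nat.card_eq_fintype_card, ← hdd]
    have hK0 : ((2 * d + 1 : ℕ) : K) = 0 := by rw [← hqd]; exact FiniteField.cast_card_eq_zero K
    rw [hQcard] at hsum
    push_cast at hK0 hsum
    exact one_ne_zero (show (1 : K) = 0 by linear_combination 2 * hsum - hK0)
  have hTall : ∀ x : K, x ≠ 0 → T x = x⁻¹ := fun x hx => by
    by_cases hxs : IsSquare x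
    · exact hTsq x hx hxs
    · rw [hTns x hx hxs, hc1, one_div]
  -- recognition
  obtain ⟨E, hEa, hE⟩ := ZRecog.exists_lineEquiv Fr.φ Fr.inj Fr.ne_a Fr.surj
  have htr : ∀ s : K, Dickson.tr s ∈ ZRecog.realGrp (G := G) E := by
    intro s
    obtain ⟨g, hga, hg⟩ := Fr.trans s
    refine ⟨g, fun x => ?_⟩
    obtain rfl | ⟨x, rfl⟩ := Dickson.point_cases x
    · rw [Dickson.tr_ip, hEa, hga]
    · rw [Dickson.tr_fp, hE, hE, hg]
  have hdi : ∀ u : Kˣ, IsSquare (u : K) → Dickson.di u ∈ ZRecog.realGrp (G := G) E := by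
    intro u hu
    obtain ⟨h, hha, -, hh⟩ := hscal _ u.ne_zero hu
    refine ⟨h, fun x => ?_⟩
    obtain rfl | ⟨x, rfl⟩ := Dickson.point_cases x
    · rw [Dickson.di_ip, hEa, hha]
    · rw [Dickson.di_fp, hE, hE, hh]
  have hiv : Dickson.iv (-1 : Kˣ) ∈ ZRecog.realGrp (G := G) E := by
    obtain ⟨h, hha, hhb, hh⟩ := hscal (-1) (neg_ne_zero.2 one_ne_zero) hm1
    refine ⟨h * t, fun x => ?_⟩
    obtain rfl | ⟨x, rfl⟩ := Dickson.point_cases x
    · rw [Dickson.iv_ip, hEa, hE, mul_smul, hta, hhb, Fr.zero]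
    by_cases hx : x = 0
    · subst hx
      rw [Dickson.iv_fp_zero, hEa, hE, Fr.zero, mul_smul, htb, hha]
    · rw [Dickson.iv_fp _ hx, hE, hE, mul_smul, hT x hx, hh, hTall x hx]
      congr 1
      simp [div_eq_mul_inv]
  have hcard : Nat.card G ≤ Nat.card (Dickson.psl K) := by
    have h1 := CfsgLib.Char.ZassenhausOdd.card_group hZ hab
    have h2 := Dickson.card_psl (F := K)
    rw [Nat.card_eq_fintype_card (α := K), hqd] at h2
    rw [show Nat.gcd 2 (2 * d + 1 - 1) = 2 by simp] at h2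
    rw [h1, ← hd2]
    change (2 * d + 2) * (2 * d + 2 - 1) * Nat.card ↥(stabilizer G a ⊓ stabilizer G b) ≤ _
    rw [← hdd, show 2 * d + 2 - 1 = 2 * d + 1 by omega]
    rw [show 2 * d + 1 - 1 = 2 * d by omega] at h2
    nlinarith
  obtain ⟨i⟩ := ZRecog.equiv_psl E htr hdi hiv hcard
  exact ⟨p, f, K, hK, inferInstance, hp, hp2, hq, hpf, ⟨i⟩⟩

end CfsgLib.Perm.ZEven
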