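import Cfsg.Agent.Lib.Perm.Zassenhaus.SharpThree

/-!
# Sharply triply transitive groups of even degree are not simple: the transfer
-/

set_option autoImplicit false
set_option linter.unusedSectionVars false
set_option linter.style.haveILetI false

namespace CfsgLib.Perm.ZSharp

open MulAction CfsgLib.Perm
open scoped commutatorElement

universe u v

variable {G : Type u} {Ω : Type v} [Group G] [Finite G] [MulAction G Ω] [Fintype Ω] [FaithfulSMul G Ω]

/-- Every element of a simple group of order above two acts by an even permutation. -/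
theorem sign_eq_one [DecidableEq Ω] [IsSimpleGroup G] (h : 2 < Nat.card G) (g : G) :
    Equiv.Perm.sign (toPermHom G Ω g) = 1 := by
  rcases IsSimpleGroup.eq_bot_or_eq_top_of_normal (Equiv.Perm.sign.comp (toPermHom G Ω)).ker inferInstance with hk | hk
  · exfalso
    have h1 := Nat.card_le_card_of_injective _ ((MonoidHom.ker_eq_bot_iff _).1 hk)
    rw [Nat.card_eq_fintype_card (α := ℤˣ), Fintype.card_units_int] at h1
    omega
  · exact MonoidHom.mem_ker.1 (hk ▸ Subgroup.mem_top g : g ∈ (Equiv.Perm.sign.comp (toPermHom G Ω)).ker)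

/-- The sign of an involution. -/
theorem sign_invol [DecidableEq Ω] {g : G} (hg : g * g = 1) :
    Equiv.Perm.sign (toPermHom G Ω g) =
      (-1) ^ ((Fintype.card Ω - (Finset.univ.filter fun x : Ω => g • x = x).card) / 2) := by
  rw [Equiv.Perm.sign_of_pow_two_eq_one (by rw [pow_two, ← map_mul, hg, map_one])]
  congr 3
  rw [← Fintype.card_subtype]
  exact Fintype.card_congr (Equiv.subtypeEquivRight fun x => Iff.rfl)

variable (h2 : IsMultiplyPretransitive G Ω 2)
  (hthree : ∀ g : G, ∀ a b c : Ω, a ≠ b → b ≠ c → a ≠ c → g • a = a → g • b = b → g • c = c → g = 1)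
  {a b : Ω} (hab : a ≠ b) (he : Nat.card ↥(stabilizer G a ⊓ stabilizer G b) + 2 = Fintype.card Ω)

include h2 hab he in
/-- The index of the two-point stabiliser. -/
theorem index_eq : (stabilizer G a ⊓ stabilizer G b).index = Fintype.card Ω * (Fintype.card Ω - 1) := by
  classical
  have hb : Function.Bijective (fun q : G ⧸ (stabilizer G a ⊓ stabilizer G b) =>
      (⟨(q.out • a, q.out • b), fun e => hab (smul_left_cancel q.out e)⟩ : {w : Ω × Ω // w.1 ≠ w.2})) := by
    refine ⟨fun q r e => ?_, fun ⟨⟨x, y⟩, hxy⟩ => ?_⟩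
    · simp only [Subtype.mk.injEq, Prod.mk.injEq] at e
      rw [← QuotientGroup.out_eq' q, ← QuotientGroup.out_eq' r, QuotientGroup.eq]
      exact ⟨by show (q.out⁻¹ * r.out) • a = a; rw [mul_smul, ← e.1, inv_smul_smul],
        by show (q.out⁻¹ * r.out) • b = b; rw [mul_smul, ← e.2, inv_smul_smul]⟩
    · obtain ⟨g, hga, hgb⟩ := MulAction.is_two_pretransitive_iff.1 h2 hab hxy
      obtain ⟨⟨d, hd⟩, hq⟩ := QuotientGroup.mk_out_eq_mul (stabilizer G a ⊓ stabilizer G b) g
      refine ⟨(g : G ⧸ _), Subtype.ext (Prod.ext ?_ ?_)⟩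
      · show (g : G ⧸ (stabilizer G a ⊓ stabilizer G b)).out • a = x
        rw [hq, mul_smul, show d • a = a from hd.1, hga]
      · show (g : G ⧸ (stabilizer G a ⊓ stabilizer G b)).out • b = y
        rw [hq, mul_smul, show d • b = b from hd.2, hgb]
  rw [Subgroup.index_eq_card, Nat.card_eq_of_bijective _ hb, Nat.card_eq_fintype_card, Fintype.card_subtype_compl,
    Fintype.card_prod, Nat.mul_sub, mul_one]
  congr 1
  exact Fintype.card_congr ⟨fun q => q.1.1, fun z => ⟨(z, z), rfl⟩, fun q => Subtype.ext (Prod.ext rfl q.2),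
    fun z => rfl⟩

include h2 hthree hab he in
/-- A sharply triply transitive group of even degree is not simple. -/
theorem not_simple [IsSimpleGroup G] (heven : Even (Nat.card ↥(stabilizer G a ⊓ stabilizer G b))) : False := by
  classical
  haveI : Fact (Nat.Prime 2) := ⟨Nat.prime_two⟩
  haveI : Fintype G := Fintype.ofFinite G
  set D : Subgroup G := stabilizer G a ⊓ stabilizer G b with hD
  obtain ⟨k, hk⟩ := heven
  have hpos : 0 < Nat.card ↥D := Nat.card_pos
  have hn : 4 ≤ Fintype.card Ω := by omega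
  have hG2 : 2 < Nat.card G := by
    rw [← D.index_mul_card, index_eq h2 hab he]
    have : 4 * 3 ≤ Fintype.card Ω * (Fintype.card Ω - 1) := Nat.mul_le_mul hn (by omega)
    have := Nat.le_mul_of_pos_right (Fintype.card Ω * (Fintype.card Ω - 1)) hpos
    omega
  obtain ⟨⟨z, hz⟩, hzo⟩ := exists_prime_orderOf_dvd_card' 2 (show 2 ∣ Nat.card ↥D by omega)
  rw [← Subgroup.orderOf_coe] at hzo
  change orderOf z = 2 at hzo
  have hz2 : z * z = 1 := by rw [← pow_two, ← hzo, pow_orderOf_eq_one]
  have hz1 : z ≠ 1 := fun e => by rw [e, orderOf_one] at hzo; omega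
  have hzfix : ∀ g : G, g ≠ 1 → g ∈ D → ∀ x : Ω, g • x = x → x = a ∨ x = b := by
    intro g hg1 hg x hx
    by_contra h
    push Not at h
    exact hg1 (hthree g a b x hab h.2.symm h.1.symm hg.1 hg.2 hx)
  by_cases h4 : Nat.card ↥D % 4 = 0
  swap
  · -- the involution is an odd permutation
    have h1 := sign_eq_one (Ω := Ω) hG2 z
    rw [sign_invol hz2] at h1
    have hF : (Finset.univ.filter fun x : Ω => z • x = x) = {a, b} := by
      ext x
      simp only [Finset.mem_filter, Finset.mem_univ, true_and, Finset.mem_insert, Finset.mem_singleton]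
      exact ⟨hzfix z hz1 hz x, fun h => h.elim (fun e => e ▸ hz.1) (fun e => e ▸ hz.2)⟩
    rw [hF, Finset.card_pair hab, show Fintype.card Ω - 2 = 2 * k by omega, Nat.mul_div_cancel_left _ two_pos,
      Odd.neg_one_pow (Nat.odd_iff.2 (by omega))] at h1
    exact absurd h1 (by decide)
  -- every involution fixes a point
  have hfixpt : ∀ g : G, g * g = 1 → ∃ x : Ω, g • x = x := by
    intro g hg
    by_contra h
    push Not at h
    have h1 := sign_eq_one (Ω := Ω) hG2 g
    rw [sign_invol hg, Finset.filter_eq_empty_iff.2 fun x _ => h x, Finset.card_empty, Nat.sub_zero,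
      Odd.neg_one_pow (Nat.odd_iff.2 (by omega))] at h1
    exact absurd h1 (by decide)
  obtain ⟨c, hca, hcb⟩ : ∃ c, c ≠ a ∧ c ≠ b := by
    by_contra h
    push Not at h
    have hle : (Finset.univ : Finset Ω).card ≤ ({a, b} : Finset Ω).card := Finset.card_le_card fun x _ => by
      by_cases hx : x = a
      · simp [hx]
      · simp [h x hx]
    rw [Finset.card_pair hab, Finset.card_univ] at hle
    omega
  obtain ⟨v, hva, hvb, hvc, hvv⟩ := exists_swap h2 hthree hab he hca hcb
  obtain ⟨ν, ⟨d₀, hd₀⟩, hν⟩ := exists_invariant_hom h2 hthree hab he ⟨k, hk⟩ hva hvb hvv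
  -- the stabiliser of the pair
  let P : Subgroup G :=
    { carrier := {g | g ∈ D ∨ v * g ∈ D}
      one_mem' := Or.inl D.one_mem
      mul_mem' := fun {g h} hg hh => by
        have hconj : ∀ d ∈ D, v * d * v ∈ D := fun d hd => ⟨by
          show (v * d * v) • a = a
          rw [mul_smul, mul_smul, hva, show d • b = b from hd.2, hvb], by
          show (v * d * v) • b = b
          rw [mul_smul, mul_smul, hvb, show d • a = a from hd.1, hva]⟩
        rcases hg with hg | hg <;> rcases hh with hh | hh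
        · exact Or.inl (D.mul_mem hg hh)
        · refine Or.inr ?_
          have := D.mul_mem (hconj g hg) hh
          rwa [show v * g * v * (v * h) = v * g * (v * v) * h by group, hvv, mul_one, mul_assoc] at this
        · refine Or.inr ?_
          rw [← mul_assoc]; exact D.mul_mem hg hh
        · refine Or.inl ?_
          have := D.mul_mem (hconj _ hg) hh
          rwa [show v * (v * g) * v * (v * h) = (v * v) * g * (v * v) * h by group, hvv, one_mul, mul_one] at this
      inv_mem' := fun {g} hg => by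
        rcases hg with hg | hg
        · exact Or.inl (D.inv_mem hg)
        · refine Or.inr ?_
          have h1 := D.inv_mem hg
          have hvi : v⁻¹ = v := inv_eq_of_mul_eq_one_left hvv
          rw [mul_inv_rev, hvi] at h1
          exact ⟨by
            show (v * g⁻¹) • a = a
            have := congrArg (v • ·) h1.2
            rw [show (v * g⁻¹) • a = v • ((g⁻¹ * v) • b) by rw [mul_smul, mul_smul, hvb], this, hvb], by
            show (v * g⁻¹) • b = b
            have := congrArg (v • ·) h1.1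
            rw [show (v * g⁻¹) • b = v • ((g⁻¹ * v) • a) by rw [mul_smul, mul_smul, hva], this, hva]⟩ }
  have hPmem : ∀ g, g ∈ P ↔ g ∈ D ∨ v * g ∈ D := fun g => Iff.rfl
  -- the character
  obtain ⟨χ, hχ⟩ : ∃ χ : G → Z2, ∀ g, χ g =
      if h : g ∈ D then ν ⟨g, h⟩ else if h' : v * g ∈ D then ν ⟨v * g, h'⟩ else 1 := ⟨_, fun _ => rfl⟩
  have hnot : ∀ g, g ∈ D → v * g ∉ D := fun g hg h => hab (by
    have : (v * g) • a = b := by rw [mul_smul, show g • a = a from hg.1, hva]
    rw [← this, show (v * g) • a = a from h.1])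
  have hχ1 : ∀ (g : G) (h : g ∈ D), χ g = ν ⟨g, h⟩ := fun g h => by rw [hχ, dif_pos h]
  have hχ2 : ∀ (g : G) (h : v * g ∈ D), χ g = ν ⟨v * g, h⟩ := fun g h => by
    rw [hχ, dif_neg (fun h' => hnot g h' h), dif_pos h]
  have hχmul : ∀ g h : G, g ∈ P → h ∈ P → χ (g * h) = χ g * χ h := by
    intro g h hg hh
    have hconj : ∀ d : D, v * (d : G) * v ∈ D := fun d => ⟨by
      show (v * (d : G) * v) • a = a
      rw [mul_smul, mul_smul, hva, show (d : G) • b = b from d.2.2, hvb], by
      show (v * (d : G) * v) • b = b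
      rw [mul_smul, mul_smul, hvb, show (d : G) • a = a from d.2.1, hva]⟩
    rcases hg with hg | hg <;> rcases hh with hh | hh
    · rw [hχ1 g hg, hχ1 h hh, hχ1 _ (D.mul_mem hg hh), ← map_mul]; rfl
    · have hm : v * (g * h) ∈ D := by
        have := D.mul_mem (hconj ⟨g, hg⟩) hh
        rwa [show v * g * v * (v * h) = v * g * (v * v) * h by group, hvv, mul_one, mul_assoc] at this
      rw [hχ1 g hg, hχ2 h hh, hχ2 _ hm, ← hν ⟨g, hg⟩ ⟨_, hconj ⟨g, hg⟩⟩ rfl, ← map_mul]
      congr 1
      refine Subtype.ext ?_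
      show v * (g * h) = v * g * v * (v * h)
      rw [show v * g * v * (v * h) = v * g * (v * v) * h by group, hvv, mul_one, mul_assoc]
    · rw [hχ2 g hg, hχ1 h hh, hχ2 _ (by rw [← mul_assoc]; exact D.mul_mem hg hh), ← map_mul]
      congr 1
      exact Subtype.ext (mul_assoc _ _ _).symm
    · have hm : g * h ∈ D := by
        have := D.mul_mem (hconj ⟨_, hg⟩) hh
        rwa [show v * (v * g) * v * (v * h) = (v * v) * g * (v * v) * h by group, hvv, one_mul, mul_one] at this
      rw [hχ2 g hg, hχ2 h hh, hχ1 _ hm, ← hν ⟨_, hg⟩ ⟨_, hconj ⟨_, hg⟩⟩ rfl, ← map_mul]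
      congr 1
      refine Subtype.ext ?_
      show g * h = v * (v * g) * v * (v * h)
      rw [show v * (v * g) * v * (v * h) = (v * v) * g * (v * v) * h by group, hvv, one_mul, mul_one]
  -- involutions of the pair stabiliser are killed
  have hsq : ∀ d : D, ν d * ν d = 1 := fun d => z2_mul_self _
  have huniq := (index_two_data h2 hthree hab he ⟨k, hk⟩).2
  obtain ⟨x₄, hx₄, hx₄1⟩ : ∃ x : D, (x * x) * (x * x) = 1 ∧ x * x ≠ 1 := by
    obtain ⟨T⟩ : Nonempty (Sylow 2 D) := inferInstance
    have hT : 4 ∣ Nat.card (T : Subgroup D) := Sylow.pow_dvd_card_of_pow_dvd_card (n := 2) T (by omega)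
    obtain ⟨x, hxT, hx⟩ : ∃ x ∈ (T : Subgroup D), x * x ≠ 1 := by
      by_contra h
      push Not at h
      have hle : Nat.card (T : Subgroup D) ≤ Nat.card ({1, ⟨z, hz⟩} : Finset D) := by
        refine Nat.card_le_card_of_injective (fun t => ⟨(t : D), ?_⟩) fun s t e => ?_
        · by_cases ht : (t : D) = 1
          · simp [ht]
          · simp [huniq _ ⟨z, hz⟩ (h _ t.2) ht (Subtype.ext hz2) (fun e => hz1 (congrArg Subtype.val e))]
        · have h' := congrArg Subtype.val e
          exact Subtype.ext h'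
      rw [Nat.card_eq_finsetCard] at hle
      have := Nat.le_of_dvd Nat.card_pos hT
      have := Finset.card_le_two (a := (1 : D)) (b := ⟨z, hz⟩)
      omega
    obtain ⟨i, hi⟩ := T.2 ⟨x, hxT⟩
    have hi' : x ^ 2 ^ i = 1 := congrArg Subtype.val hi
    clear hi
    induction i generalizing x with
    | zero => exact absurd (by rw [← pow_two, show x = 1 by simpa using hi', one_pow]) hx
    | succ i ih =>
      by_cases h4x : (x * x) * (x * x) = 1
      · exact ⟨x, h4x, hx⟩
      · exact ih (x * x) (mul_mem hxT hxT) h4x (by rw [← pow_two, ← pow_mul, mul_comm, ← pow_succ]; exact hi')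
  have hinvol : ∀ w : G, w ∈ P → w * w = 1 → χ w = 1 := by
    intro w hw hww
    rcases hw with hw | hw
    · by_cases hw1 : w = 1
      · rw [hχ1 w hw, show (⟨w, hw⟩ : D) = 1 from Subtype.ext hw1, map_one]
      -- the involution is a square
      rw [hχ1 w hw]
      rw [show (⟨w, hw⟩ : D) = x₄ * x₄ from huniq _ _ (Subtype.ext hww) (fun e => hw1 (congrArg Subtype.val e)) hx₄ hx₄1,
        map_mul, hsq]
    · obtain ⟨x, hx⟩ := hfixpt w hww
      have hwa : w • a = b := by
        have h1 : (v * w) • a = a := hw.1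
        rw [mul_smul] at h1
        exact smul_left_cancel v (h1.trans hvb.symm)
      have hwb : w • b = a := by
        have h1 : (v * w) • b = b := hw.2
        rw [mul_smul] at h1
        exact smul_left_cancel v (h1.trans hva.symm)
      have hxa : x ≠ a := fun e => hab (by rw [← hwa, ← e, hx, e])
      have hxb : x ≠ b := fun e => hab (by rw [← hwb, ← e, hx])
      obtain ⟨d, hd, -⟩ := exists_move hthree hab he (x := c) (y := x) hca hcb hxa hxb
      have hd' : (d : G)⁻¹ • x = c := inv_smul_eq_iff.2 hd.symm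
      have hda : (d : G)⁻¹ • a = a := inv_smul_eq_iff.2 d.2.1.symm
      have hdb : (d : G)⁻¹ • b = b := inv_smul_eq_iff.2 d.2.2.symm
      have e1 : w * ((d : G) * v * (d : G)⁻¹) = 1 := hthree _ a b x hab hxb.symm hxa.symm
        (by rw [mul_smul, mul_smul, mul_smul, hda, hva, show (d : G) • b = b from d.2.2, hwb])
        (by rw [mul_smul, mul_smul, mul_smul, hdb, hvb, show (d : G) • a = a from d.2.1, hwa])
        (by rw [mul_smul, mul_smul, mul_smul, hd', hvc, hd, hx])
      have hw' : w = (d : G) * v * (d : G)⁻¹ := by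
        have := eq_inv_of_mul_eq_one_left e1
        rwa [mul_inv_rev, mul_inv_rev, inv_inv, inv_eq_of_mul_eq_one_left hvv, ← mul_assoc] at this
      have hvP : v ∈ P := Or.inr (hvv ▸ D.one_mem)
      have hdP : (d : G) ∈ P := Or.inl d.2
      rw [hw', hχmul _ _ (P.mul_mem hdP hvP) (P.inv_mem hdP), hχmul _ _ hdP hvP,
        hχ1 _ d.2, hχ1 _ (D.inv_mem d.2), hχ2 v (hvv ▸ D.one_mem),
        show (⟨v * v, hvv ▸ D.one_mem⟩ : D) = 1 from Subtype.ext hvv, map_one, mul_one,
        show (⟨(d : G)⁻¹, D.inv_mem d.2⟩ : D) = d⁻¹ from rfl, map_inv, mul_inv_cancel]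
  -- fusion preserves the character
  have hfus : ∀ s g : G, s ∈ P → g * s * g⁻¹ ∈ P → χ (g * s * g⁻¹) = χ s := by
    intro s g hs hgs
    by_cases hss : s * s = 1
    · rw [hinvol s hs hss, hinvol _ hgs (by
        rw [show g * s * g⁻¹ * (g * s * g⁻¹) = g * (s * s) * g⁻¹ by group, hss]; group)]
    have hPsq : ∀ t ∈ P, t * t ∈ D := by
      intro t ht
      rcases ht with ht | ht
      · exact D.mul_mem ht ht
      · have h1 : t • a = b := by
          have h1 : (v * t) • a = a := ht.1
          rw [mul_smul] at h1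
          exact smul_left_cancel v (h1.trans hvb.symm)
        have h1' : t • b = a := by
          have h1 : (v * t) • b = b := ht.2
          rw [mul_smul] at h1
          exact smul_left_cancel v (h1.trans hva.symm)
        exact ⟨by show (t * t) • a = a; rw [mul_smul, h1, h1'], by show (t * t) • b = b; rw [mul_smul, h1', h1]⟩
    have hD2 := hPsq s hs
    have hD2' := hPsq _ hgs
    rw [show g * s * g⁻¹ * (g * s * g⁻¹) = g * (s * s) * g⁻¹ by group] at hD2'
    have hmove : ∀ y : Ω, (g * (s * s) * g⁻¹) • y = y → g⁻¹ • y = a ∨ g⁻¹ • y = b := fun y hy =>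
      hzfix _ hss hD2 _ (by rwa [mul_smul, mul_smul, smul_eq_iff_eq_inv_smul] at hy)
    have hg : g ∈ P := by
      rcases hmove a hD2'.1 with ea | ea <;> rcases hmove b hD2'.2 with eb | eb
      · exact absurd (smul_left_cancel g⁻¹ (ea.trans eb.symm)) hab
      · exact Or.inl ⟨(inv_smul_eq_iff.1 ea).symm, (inv_smul_eq_iff.1 eb).symm⟩
      · refine Or.inr ⟨?_, ?_⟩ <;> show _ • _ = _
        · rw [mul_smul, ← inv_smul_eq_iff.1 eb, hvb]
        · rw [mul_smul, ← inv_smul_eq_iff.1 ea, hva]
      · exact absurd (smul_left_cancel g⁻¹ (ea.trans eb.symm)) hab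
    rw [hχmul _ _ (P.mul_mem hg hs) (P.inv_mem hg), hχmul _ _ hg hs, mul_right_comm, ← hχmul _ _ hg (P.inv_mem hg),
      mul_inv_cancel, hinvol 1 P.one_mem (one_mul 1), one_mul]
  let χP : P →* Z2 := MonoidHom.mk' (fun g => χ g) fun g h => hχmul g h g.2 h.2
  have hfocal : P.focalSubgroupOf ≤ χP.ker := by
    rw [Subgroup.focalSubgroupOf_eq_closure, Subgroup.closure_le]
    rintro g ⟨x, hx, u, hgx⟩
    show χ g = 1
    have hg := g.2
    rw [hgx] at hg ⊢
    have hy : u * x⁻¹ * u⁻¹ ∈ P := by
      have := P.mul_mem (P.inv_mem hx) hg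
      rwa [commutatorElement_def, show x⁻¹ * (x * u * x⁻¹ * u⁻¹) = u * x⁻¹ * u⁻¹ by group] at this
    rw [commutatorElement_def, show x * u * x⁻¹ * u⁻¹ = x * (u * x⁻¹ * u⁻¹) by group, hχmul _ _ hx hy,
      hfus _ _ (P.inv_mem hx) hy, ← hχmul _ _ hx (P.inv_mem hx), mul_inv_cancel,
      hinvol 1 P.one_mem (one_mul 1)]
  -- the index of the pair stabiliser is odd
  have hDP : D ≤ P := fun g hg => Or.inl hg
  have hrel : D.relIndex P = 2 := by
    rw [Subgroup.relIndex, Subgroup.index_eq_two_iff]
    refine ⟨⟨v, Or.inr (hvv ▸ D.one_mem)⟩, fun g => ?_⟩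
    rw [Subgroup.mem_subgroupOf, Subgroup.mem_subgroupOf, Subgroup.coe_mul]
    rcases g.2 with hg | hg
    · refine Or.inr ⟨hg, fun h => hnot v ?_ (hvv ▸ D.one_mem)⟩
      have := D.mul_mem (D.inv_mem hg) h
      rwa [inv_mul_cancel_left] at this
    · refine Or.inl ⟨?_, fun h => hnot _ h hg⟩
      have := D.mul_mem (show v * (v * (g : G)) * v ∈ D from ⟨by
        show (v * (v * (g : G)) * v) • a = a
        rw [mul_smul, mul_smul v, hva, show (v * (g : G)) • b = b from hg.2, hvb], by
        show (v * (v * (g : G)) * v) • b = b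
        rw [mul_smul, mul_smul v, hvb, show (v * (g : G)) • a = a from hg.1, hva]⟩) D.one_mem
      rwa [mul_one, show v * (v * (g : G)) * v = (v * v) * g * v by group, hvv, one_mul] at this
  have hodd : Odd P.index := by
    have h1 := Subgroup.relIndex_mul_index hDP
    rw [hrel, index_eq h2 hab he] at h1
    have hm : P.index = (k + 1) * (Fintype.card Ω - 1) := by
      have : 2 * P.index = 2 * ((k + 1) * (Fintype.card Ω - 1)) := by
        rw [h1, ← mul_assoc, show Fintype.card Ω = 2 * (k + 1) by omega]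
      omega
    rw [hm]
    exact Odd.mul (Nat.odd_iff.2 (by omega)) (Nat.odd_iff.2 (by omega))
  -- the transfer is trivial
  have htriv : P.transferFocal.ker = ⊤ := by
    refine (IsSimpleGroup.eq_bot_or_eq_top_of_normal _ inferInstance).resolve_left fun hbot => ?_
    have hcomm : ∀ g h : G, g * h = h * g := fun g h =>
      (MonoidHom.ker_eq_bot_iff _).1 hbot (by rw [map_mul, map_mul]; exact IsMulCommutative.is_comm.comm _ _)
    obtain ⟨g, hga, -⟩ := MulAction.is_two_pretransitive_iff.1 h2 hab hca.symm |> fun ⟨g, h1, h2⟩ =>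
      (⟨g, h2, h1⟩ : ∃ g : G, g • b = c ∧ g • a = a)
    have : z • c = c := by rw [← hga, smul_smul, hcomm, mul_smul, show z • b = b from hz.2]
    exact (hzfix z hz1 hz c this).elim hca hcb
  have hkill : ∀ x : P, χP x = 1 := by
    intro x
    have h1 : P.transferFocal (x : G) = 1 := MonoidHom.mem_ker.1 (htriv ▸ Subgroup.mem_top _)
    rw [Subgroup.transferFocal_eq_pow, ← QuotientGroup.mk_pow, QuotientGroup.eq_one_iff] at h1
    have h2' : χP (x ^ P.index) = 1 := hfocal h1
    obtain ⟨r, hr⟩ := hodd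
    rwa [map_pow, hr, pow_succ, pow_mul, pow_two, z2_mul_self, one_pow, one_mul] at h2'
  have h := hkill ⟨d₀, Or.inl d₀.2⟩
  exact hd₀ ((hχ1 (d₀ : G) d₀.2).symm.trans h)

end CfsgLib.Perm.ZSharp
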