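import Cfsg.Agent.Lib.Perm.Zassenhaus.Even
import Cfsg.Agent.Lib.Perm.Zassenhaus.SharpNotSimple
import Cfsg.Agent.S0739

/-!
# Simple Zassenhaus groups: two-point stabilisers
-/

set_option autoImplicit false
set_option linter.unusedSectionVars false
set_option linter.style.haveILetI false

namespace CfsgLib.Perm.ZSimple

open MulAction CfsgLib.Perm

variable {G Ω : Type*} [Group G] [Finite G] [MulAction G Ω] [Fintype Ω]

/-- The two-point stabiliser is semiregular on the other points. -/
theorem card_dvd (hZ : Cfsg.IsZassenhausGroup G Ω) {a b : Ω} (hab : a ≠ b) :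
    Nat.card ↥(stabilizer G a ⊓ stabilizer G b) ∣ Fintype.card Ω - 2 := by
  classical
  set D : Subgroup G := stabilizer G a ⊓ stabilizer G b with hD
  letI : MulAction D {x : Ω // x ≠ a ∧ x ≠ b} :=
    { smul := fun d x => ⟨(d : G) • (x : Ω), fun e => x.2.1 (smul_left_cancel _ (e.trans d.2.1.symm)),
        fun e => x.2.2 (smul_left_cancel _ (e.trans d.2.2.symm))⟩
      one_smul := fun x => Subtype.ext (one_smul G (x : Ω))
      mul_smul := fun d d' x => Subtype.ext (mul_smul (d : G) (d' : G) (x : Ω)) }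
  have hst : ∀ x : {x : Ω // x ≠ a ∧ x ≠ b}, stabilizer D x = ⊥ := fun x => eq_bot_iff.2 fun d hd =>
    Subgroup.mem_bot.2 (Subtype.ext (hZ.2.2.1 d a b x hab x.2.2.symm x.2.1.symm d.2.1 d.2.2 (congrArg Subtype.val hd)))
  have h : Nat.card {x : Ω // x ≠ a ∧ x ≠ b} = Fintype.card Ω - 2 := by
    rw [Nat.card_eq_fintype_card, Fintype.card_subtype,
      show Finset.univ.filter (fun z : Ω => z ≠ a ∧ z ≠ b) = Finset.univ \ {a, b} by ext z; simp,
      Finset.card_sdiff_of_subset (Finset.subset_univ _), Finset.card_pair hab, Finset.card_univ]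
  rw [← h, Nat.card_congr (selfEquivOrbitsQuotientProd hst), Nat.card_prod]
  exact dvd_mul_left _ _

/-- In a simple group the even two-point stabiliser has at most half of `n - 1` elements. -/
theorem two_mul_le [IsSimpleGroup G] (hZ : Cfsg.IsZassenhausGroup G Ω) {a b : Ω} (hab : a ≠ b)
    (heven : Even (Nat.card ↥(stabilizer G a ⊓ stabilizer G b))) :
    2 * Nat.card ↥(stabilizer G a ⊓ stabilizer G b) ≤ Fintype.card Ω - 2 := by
  obtain ⟨q, hq⟩ := card_dvd hZ hab
  have h3 := CfsgLib.Char.zassenhaus_three_le hZ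
  rcases q with _ | _ | q
  · omega
  · haveI := hZ.1
    exact (ZSharp.not_simple hZ.2.1 hZ.2.2.1 hab (by omega) heven).elim
  · rw [hq, mul_comm 2]; exact Nat.mul_le_mul_left _ (by omega)

/-- A simple Zassenhaus group with even two-point stabilisers is `PSL(2, q)`. -/
theorem iso_psl [IsSimpleGroup G] (hZ : Cfsg.IsZassenhausGroup G Ω) {a b : Ω} (hab : a ≠ b)
    (heven : Even (Nat.card ↥(stabilizer G a ⊓ stabilizer G b))) :
    ∃ (p f : ℕ) (K : Type) (_ : Field K) (_ : Fintype K), p.Prime ∧ p ≠ 2 ∧ Fintype.card K = p ^ f ∧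
      Fintype.card Ω = p ^ f + 1 ∧ 3 < Fintype.card K ∧
      Nonempty (G ≃* Matrix.ProjectiveSpecialLinearGroup (Fin 2) K) := by
  have hle := two_mul_le hZ hab heven
  obtain ⟨p, f, K, hK, hKf, hp, hp2, hq, hΩ, e⟩ := ZEven.iso_psl hZ hab heven hle
  refine ⟨p, f, K, hK, hKf, hp, hp2, hq, hΩ, ?_, e⟩
  obtain ⟨r, hr⟩ := heven
  have : 0 < Nat.card ↥(stabilizer G a ⊓ stabilizer G b) := Nat.card_pos
  omega

/-- The two-point stabiliser of a simple Zassenhaus group is cyclic and inverted by an involution. -/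
theorem cyclic_inverted [IsSimpleGroup G] (hZ : Cfsg.IsZassenhausGroup G Ω) {a b : Ω} (hab : a ≠ b) :
    IsCyclic ↥(stabilizer G a ⊓ stabilizer G b) ∧ ∃ v : G, orderOf v = 2 ∧ v • a = b ∧ v • b = a ∧
      ∀ h ∈ stabilizer G a ⊓ stabilizer G b, v * h * v⁻¹ = h⁻¹ := by
  classical
  haveI : Fintype G := Fintype.ofFinite G
  obtain ⟨v, hva, hvb⟩ := MulAction.is_two_pretransitive_iff.1 hZ.2.1 hab hab.symm
  have hvne : v ≠ 1 := fun e => hab (by rw [← hva, e, one_smul])
  rcases Nat.even_or_odd (Nat.card ↥(stabilizer G a ⊓ stabilizer G b)) with heven | hodd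
  · have h2d : 2 * Nat.card ↥(stabilizer G a ⊓ stabilizer G b) + 2 = Fintype.card Ω := by
      have := two_mul_le hZ hab heven
      have := Cfsg.Agent.S0741.result hZ hab heven
      have := CfsgLib.Char.zassenhaus_three_le hZ
      omega
    have hvv := (ZEven.swappers hZ hab heven h2d hva hvb).1
    obtain ⟨hinv, hHc⟩ := ZSwap.inverted_of_swappers
      (fun g hga hgb => (ZEven.swappers hZ hab heven h2d (g₁ := g) hga hgb).1) hva hvb
    obtain ⟨z, hza, hzb⟩ : ∃ z, z ≠ a ∧ z ≠ b := by
      by_contra h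
      push Not at h
      have hle : (Finset.univ : Finset Ω).card ≤ ({a, b} : Finset Ω).card := Finset.card_le_card fun x _ => by
        by_cases hx : x = a
        · simp [hx]
        · simp [h x hx]
      rw [Finset.card_pair hab, Finset.card_univ] at hle
      have := CfsgLib.Char.zassenhaus_three_le hZ
      omega
    obtain ⟨F, hFa, hFn, hreg, hFcard⟩ := ZEven.kernel_data hZ hab
    obtain ⟨hFc, p, f, hp, hexp, hpf⟩ := ZReg.regular_elementary hZ hab (by omega) F hFa hFn hreg
    obtain ⟨K, hK, hKf, ⟨Fr⟩, -⟩ := ZFrame.exists_frame (G := G) hab hza hzb F hFa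
      (fun h hh u hu => hFn.conj_mem ⟨u, hFa hu⟩ hu ⟨h, hh.1⟩) hreg
      (fun h ha hb c hca hcb hc => hZ.2.2.1 h a b c hab (Ne.symm hcb) (Ne.symm hca) ha hb hc) hHc
      (by omega) (fun u hu v hv => congrArg Subtype.val (hFc.is_comm.comm (⟨u, hu⟩ : F) ⟨v, hv⟩))
      hp hexp (show Nat.card F = p ^ f by omega)
    exact ⟨isCyclic_of_subgroup_isDomain ((Units.coeHom K).comp Fr.χ) (Units.val_injective.comp Fr.χinj),
      v, orderOf_eq_prime ((pow_two v).trans hvv) hvne, hva, hvb, hinv⟩
  · have hnil : ∀ q : ℕ, q.Prime → q ∣ Nat.card ↥(stabilizer G a ⊓ stabilizer G b) →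
        ¬ ∃ N : Subgroup G, N.Normal ∧ N.index = q ^ (Nat.card G).factorization q := by
      rintro q hq hqd ⟨N, hN, hNi⟩
      haveI := Fact.mk hq
      have hf : 1 ≤ (Nat.card G).factorization q := (hq.dvd_iff_one_le_factorization Nat.card_pos.ne').1
        (hqd.trans (Subgroup.card_subgroup_dvd_card _))
      rcases IsSimpleGroup.eq_bot_or_eq_top_of_normal N hN with rfl | rfl
      · -- a simple group of prime power order is abelian
        rw [Subgroup.index_bot] at hNi
        haveI : Nontrivial G := ⟨⟨v, 1, hvne⟩⟩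
        have hcen := (IsPGroup.of_card (G := G) hNi).center_nontrivial
        have htop : Subgroup.center G = ⊤ := (IsSimpleGroup.eq_bot_or_eq_top_of_normal _ inferInstance).resolve_left
          ((Subgroup.nontrivial_iff_ne_bot _).1 hcen)
        obtain ⟨⟨x, hx⟩, hx1⟩ := exists_prime_orderOf_dvd_card' q hqd
        have hx1 : (⟨x, hx⟩ : ↥(stabilizer G a ⊓ stabilizer G b)) ≠ 1 := fun e =>
          hq.one_lt.ne (by rw [← hx1, e, orderOf_one])
        obtain ⟨z, hza, hzb⟩ : ∃ z, z ≠ a ∧ z ≠ b := by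
          by_contra h
          push Not at h
          have hle : (Finset.univ : Finset Ω).card ≤ ({a, b} : Finset Ω).card := Finset.card_le_card fun x _ => by
            by_cases hx : x = a
            · simp [hx]
            · simp [h x hx]
          rw [Finset.card_pair hab, Finset.card_univ] at hle
          have := CfsgLib.Char.zassenhaus_three_le hZ
          omega
        obtain ⟨g, -, hgb⟩ := MulAction.is_two_pretransitive_iff.1 hZ.2.1 hab hza.symm
        have hxg : x * g = g * x := (Subgroup.mem_center_iff.1 (htop ▸ Subgroup.mem_top x : x ∈ Subgroup.center G) g).symm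
        refine hx1 (Subtype.ext (hZ.2.2.1 x a b z hab hzb.symm hza.symm hx.1 hx.2 ?_))
        rw [← hgb, smul_smul, hxg, mul_smul, show x • b = b from hx.2]
      · rw [Subgroup.index_top] at hNi
        have := Nat.one_lt_pow (n := (Nat.card G).factorization q) (by omega) hq.one_lt
        omega
    obtain ⟨hc, -, hinv⟩ := Cfsg.Agent.S0739.result hZ hab hodd hnil
    refine ⟨hc, v, orderOf_eq_prime ?_ hvne, hva, hvb, hinv v hva hvb⟩
    have hm : v * v ∈ stabilizer G a ⊓ stabilizer G b :=
      ⟨by show (v * v) • a = a; rw [mul_smul, hva, hvb], by show (v * v) • b = b; rw [mul_smul, hvb, hva]⟩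
    have h1 : (v * v) * (v * v) = 1 := by
      have := hinv v hva hvb _ hm
      rw [show v * (v * v) * v⁻¹ = v * v by group, eq_inv_iff_mul_eq_one] at this
      exact this
    have hdvd : orderOf (⟨v * v, hm⟩ : ↥(stabilizer G a ⊓ stabilizer G b)) ∣ 2 :=
      orderOf_dvd_of_pow_eq_one (Subtype.ext (by rw [pow_two]; exact h1))
    rcases (Nat.dvd_prime Nat.prime_two).1 hdvd with h | h
    · rw [pow_two]; exact congrArg Subtype.val (orderOf_eq_one_iff.1 h)
    · exfalso
      exact Nat.not_even_iff_odd.2 hodd (even_iff_two_dvd.2 (h ▸ orderOf_dvd_natCard _))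

end CfsgLib.Perm.ZSimple
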