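import Cfsg.Agent.S0688
import Cfsg.Agent.S0689

/-!
# Groups regular on non-zero vectors: a subgroup of index two

A group of even order that is regular on the non-zero vectors and has at most one subgroup of order three
has a subgroup of index two.
-/

set_option autoImplicit false
set_option linter.unusedSectionVars false
set_option linter.style.haveILetI false

namespace CfsgLib.Perm.ZIdx

open CfsgLib.Perm

universe u

variable {D : Type*} [Group D] [Finite D]

/-- A non-trivial `2`-quotient gives index two. -/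
theorem exists_index_two_of_quot (N : Subgroup D) [N.Normal] (h2 : 2 ∣ N.index) (hP : IsPGroup 2 (D ⧸ N)) :
    ∃ M : Subgroup D, M.index = 2 := by
  haveI : Fact (Nat.Prime 2) := ⟨Nat.prime_two⟩
  obtain ⟨k, hk⟩ := hP.exists_card_eq
  rw [Subgroup.index_eq_card, hk] at h2
  obtain ⟨j, rfl⟩ : ∃ j, k = j + 1 := Nat.exists_eq_succ_of_ne_zero (fun h => by rw [h] at h2; omega)
  obtain ⟨S, hS⟩ := Sylow.exists_subgroup_card_pow_prime 2 (n := j) (hk.symm ▸ pow_dvd_pow 2 j.le_succ)
  refine ⟨S.comap (QuotientGroup.mk' N), ?_⟩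
  rw [Subgroup.index_comap_of_surjective _ (QuotientGroup.mk'_surjective N)]
  have h := S.card_mul_index
  rw [hS, hk, pow_succ] at h
  exact Nat.eq_of_mul_eq_mul_left (pow_pos two_pos j) h

/-- An abelian quotient of even order gives index two. -/
theorem exists_index_two_of_abelian_quot (N : Subgroup D) [N.Normal] (h2 : 2 ∣ N.index)
    (hc : ∀ x y : D ⧸ N, x * y = y * x) : ∃ M : Subgroup D, M.index = 2 := by
  haveI : Fact (Nat.Prime 2) := ⟨Nat.prime_two⟩
  letI : CommGroup (D ⧸ N) := { (inferInstance : Group (D ⧸ N)) with mul_comm := hc }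
  obtain ⟨t, ht⟩ : ∃ t, t = (Nat.card (D ⧸ N)).factorization 2 := ⟨_, rfl⟩
  let f : D ⧸ N →* D ⧸ N := powMonoidHom (2 ^ t)
  have hker : 2 ∣ Nat.card f.ker := by
    rw [Subgroup.index_eq_card] at h2
    obtain ⟨x, hx⟩ := exists_prime_orderOf_dvd_card' 2 h2
    have ht1 : 1 ≤ t := ht ▸ (Nat.Prime.dvd_iff_one_le_factorization Nat.prime_two Nat.card_pos.ne').1 h2
    have hmem : x ∈ f.ker := by
      show x ^ 2 ^ t = 1
      refine orderOf_dvd_iff_pow_eq_one.1 ?_
      rw [hx]
      exact dvd_pow_self 2 (by omega)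
    exact hx ▸ Subgroup.orderOf_mk x hmem ▸ orderOf_dvd_natCard (⟨x, hmem⟩ : f.ker)
  have hidx : f.range.index = Nat.card f.ker := by
    have h := f.range.card_mul_index
    rw [← Subgroup.index_ker, ← f.ker.index_mul_card] at h
    exact Nat.eq_of_mul_eq_mul_left (Nat.pos_of_ne_zero Subgroup.index_ne_zero_of_finite) h
  refine exists_index_two_of_quot (f.range.comap (QuotientGroup.mk' N)) ?_ ?_
  · rw [Subgroup.index_comap_of_surjective _ (QuotientGroup.mk'_surjective N), hidx]
    exact hker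
  · intro y
    obtain ⟨d, rfl⟩ := QuotientGroup.mk_surjective y
    refine ⟨t, ?_⟩
    rw [← QuotientGroup.mk_pow, QuotientGroup.eq_one_iff]
    exact ⟨(d : D ⧸ N), rfl⟩

/-- A cyclic Sylow `2`-subgroup gives index two. -/
theorem exists_index_two_of_cyclic (h2 : 2 ∣ Nat.card D) (T : Sylow 2 D) (hT : IsCyclic T) :
    ∃ M : Subgroup D, M.index = 2 := by
  haveI : Fact (Nat.Prime 2) := ⟨Nat.prime_two⟩
  have hle := hT.normalizer_le_centralizer ((Nat.minFac_eq_two_iff _).2 h2)
  have hN := (MonoidHom.ker_transferSylow_isComplement' T hle).symm.index_eq_card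
  refine exists_index_two_of_quot (MonoidHom.transferSylow T hle).ker ?_ ?_
  · rw [hN, T.card_eq_multiplicity]
    exact dvd_pow_self 2 (Nat.pos_iff_ne_zero.1
      ((Nat.Prime.dvd_iff_one_le_factorization Nat.prime_two Nat.card_pos.ne').1 h2))
  · refine IsPGroup.of_card (n := (Nat.card D).factorization 2) ?_
    rw [← Subgroup.index_eq_card, hN, T.card_eq_multiplicity]

/-- Orders `24`, `48`, `120`, `528` with a normal subgroup of order three. -/
theorem exists_index_two_of_card (h : Nat.card D = 24 ∨ Nat.card D = 48 ∨ Nat.card D = 120 ∨ Nat.card D = 528)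
    (h3 : ∀ A B : Subgroup D, Nat.card A = 3 → Nat.card B = 3 → A = B) : ∃ M : Subgroup D, M.index = 2 := by
  haveI : Fact (Nat.Prime 2) := ⟨Nat.prime_two⟩
  haveI : Fact (Nat.Prime 3) := ⟨Nat.prime_three⟩
  obtain ⟨A, hA⟩ := Sylow.exists_subgroup_card_pow_prime 3 (n := 1) (G := D)
    (by rcases h with h | h | h | h <;> rw [h] <;> norm_num)
  rw [pow_one] at hA
  haveI : A.Normal := by
    refine ⟨fun x hx g => ?_⟩
    have := h3 (A.map (MulAut.conj g).toMonoidHom) A
      ((Subgroup.card_map_of_injective (MulAut.conj g).injective).trans hA) hA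
    exact this ▸ Subgroup.mem_map_of_mem _ hx
  have hidx : A.index * 3 = Nat.card D := hA ▸ A.index_mul_card
  -- a normal subgroup of the quotient with `2`-power index
  have hN : ∀ (q k : ℕ), q.Prime → (∀ d, d ∣ 2 ^ (k + 1) → d % q = 1 → d = 1) → Nat.card (D ⧸ A) = 2 ^ (k + 1) * q →
      ¬ q ∣ 2 ^ (k + 1) → ∃ M : Subgroup D, M.index = 2 := by
    intro q k hq hd hQ hco
    haveI := Fact.mk hq
    obtain ⟨P⟩ : Nonempty (Sylow q (D ⧸ A)) := inferInstance
    have hPc : Nat.card P = q := by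
      rw [P.card_eq_multiplicity, hQ, Nat.factorization_mul (by positivity) hq.ne_zero, Finsupp.add_apply,
        Nat.factorization_eq_zero_of_not_dvd hco, hq.factorization_self, zero_add, pow_one]
    have hPi : (P : Subgroup (D ⧸ A)).index = 2 ^ (k + 1) := by
      have h := (P : Subgroup (D ⧸ A)).index_mul_card
      rw [hPc, hQ] at h
      exact Nat.eq_of_mul_eq_mul_right hq.pos h
    have hone : Nat.card (Sylow q (D ⧸ A)) = 1 := by
      refine hd _ (hPi ▸ P.card_dvd_index) ?_
      have := card_sylow_modEq_one q (D ⧸ A)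
      rwa [Nat.ModEq, Nat.one_mod_eq_one.2 hq.ne_one] at this
    haveI : Subsingleton (Sylow q (D ⧸ A)) := Finite.card_le_one_iff_subsingleton.1 hone.le
    haveI : (P : Subgroup (D ⧸ A)).Normal := Sylow.normal_of_subsingleton P
    have hi : ((P : Subgroup (D ⧸ A)).comap (QuotientGroup.mk' A)).index = 2 ^ (k + 1) := by
      rw [Subgroup.index_comap_of_surjective _ (QuotientGroup.mk'_surjective A), hPi]
    refine exists_index_two_of_quot ((P : Subgroup (D ⧸ A)).comap (QuotientGroup.mk' A))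
      (hi ▸ dvd_pow_self 2 k.succ_ne_zero) (IsPGroup.of_card (n := k + 1) ?_)
    rw [← Subgroup.index_eq_card, hi]
  have hdiv : ∀ q n : ℕ, 0 < n → ((Nat.divisors n).filter (fun d => d % q = 1)) = {1} →
      ∀ d, d ∣ n → d % q = 1 → d = 1 := by
    intro q n hn he d hd hm
    have : d ∈ (Nat.divisors n).filter (fun d => d % q = 1) :=
      Finset.mem_filter.2 ⟨Nat.mem_divisors.2 ⟨hd, hn.ne'⟩, hm⟩
    rwa [he, Finset.mem_singleton] at this
  rcases h with h | h | h | h
  · exact exists_index_two_of_quot A (by rw [show A.index = 8 by omega]; norm_num)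
      (IsPGroup.of_card (n := 3) (by rw [← Subgroup.index_eq_card]; omega))
  · exact exists_index_two_of_quot A (by rw [show A.index = 16 by omega]; norm_num)
      (IsPGroup.of_card (n := 4) (by rw [← Subgroup.index_eq_card]; omega))
  · exact hN 5 2 (by norm_num) (hdiv 5 _ (by norm_num) (by decide)) (by rw [← Subgroup.index_eq_card]; omega)
      (by norm_num)
  · exact hN 11 3 (by norm_num) (hdiv 11 _ (by norm_num) (by decide)) (by rw [← Subgroup.index_eq_card]; omega)
      (by norm_num)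

/-- Two subgroups of order three of `SL(2, 5)`. -/
theorem sl_two_five_threes : ∃ x y : Matrix.SpecialLinearGroup (Fin 2) (ZMod 5),
    x ^ 3 = 1 ∧ x ≠ 1 ∧ y ^ 3 = 1 ∧ y ≠ 1 ∧ y ≠ x ∧ y ≠ x ^ 2 :=
  ⟨⟨!![0, -1; 1, -1], by decide⟩, ⟨!![0, 1; -1, -1], by decide⟩, by decide, ne_of_apply_ne Subtype.val (by decide),
    by decide, ne_of_apply_ne Subtype.val (by decide), ne_of_apply_ne Subtype.val (by decide),
    ne_of_apply_ne Subtype.val (by decide)⟩

/-- A group with a subgroup `SL(2, 5)` has two subgroups of order three. -/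
theorem not_unique_three_of_sl {C : Type*} [Group C] (e : D ≃* Matrix.SpecialLinearGroup (Fin 2) (ZMod 5) × C)
    (h3 : ∀ A B : Subgroup D, Nat.card A = 3 → Nat.card B = 3 → A = B) : False := by
  obtain ⟨x, y, hx, hx1, hy, hy1, hyx, hyx2⟩ := sl_two_five_threes
  let ι : Matrix.SpecialLinearGroup (Fin 2) (ZMod 5) →* D := e.symm.toMonoidHom.comp (MonoidHom.inl _ C)
  have hι : Function.Injective ι := e.symm.injective.comp fun a b h => (Prod.mk.inj h).1
  haveI : Fact (Nat.Prime 3) := ⟨Nat.prime_three⟩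
  have hc : ∀ z, z ^ 3 = 1 → z ≠ 1 → Nat.card (Subgroup.zpowers (ι z)) = 3 := fun z hz hz1 => by
    rw [Nat.card_zpowers, orderOf_injective ι hι, orderOf_eq_prime hz hz1]
  have hmem : ι y ∈ Subgroup.zpowers (ι x) := h3 _ _ (hc y hy hy1) (hc x hx hx1) ▸ Subgroup.mem_zpowers _
  obtain ⟨n, hn⟩ := hmem
  have hn' : x ^ n = y := hι (by rw [map_zpow]; exact hn)
  have hxo : orderOf x = 3 := orderOf_eq_prime hx hx1
  rw [← zpow_mod_orderOf, hxo] at hn'
  obtain h | h | h : n % ((3 : ℕ) : ℤ) = 0 ∨ n % ((3 : ℕ) : ℤ) = 1 ∨ n % ((3 : ℕ) : ℤ) = 2 := by push_cast; omega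
  · rw [h, zpow_zero] at hn'; exact hy1 hn'.symm
  · rw [h, zpow_one] at hn'; exact hyx hn'.symm
  · rw [h] at hn'; exact hyx2 (hn'.symm.trans (zpow_natCast x 2))

variable {p : ℕ} [Fact p.Prime] {V : Type u} [AddCommGroup V] [Module (ZMod p) V] [Finite V]

/-- A regular linear group of even order with at most one subgroup of order three has index two. -/
theorem exists_index_two_of_regular [Nontrivial V] (H : Subgroup (V ≃ₗ[ZMod p] V)) (hreg : RegLin.Regular H)
    (heven : 2 ∣ Nat.card H) (h3 : ∀ A B : Subgroup H, Nat.card A = 3 → Nat.card B = 3 → A = B) :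
    ∃ M : Subgroup H, M.index = 2 := by
  classical
  haveI : Fact (Nat.Prime 2) := ⟨Nat.prime_two⟩
  haveI : Finite H := inferInstance
  haveI := Fintype.ofFinite V
  obtain ⟨v, hv⟩ := exists_ne (0 : V)
  have hcard : Nat.card H + 1 = Nat.card V := by
    have hne : ∀ h : H, (h : V ≃ₗ[ZMod p] V) v ≠ 0 := fun h => by simpa using hv
    rw [Nat.card_eq_of_bijective (fun h : H => (⟨_, hne h⟩ : {w : V // w ≠ 0}))
      ⟨fun g h e => (hreg v _ hv (hne h)).unique (congrArg Subtype.val e) rfl,
        fun w => ⟨(hreg v w hv w.2).exists.choose, Subtype.ext (hreg v w hv w.2).exists.choose_spec⟩⟩,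
      Nat.card_eq_fintype_card, Nat.card_eq_fintype_card, Fintype.card_subtype_compl, Fintype.card_subtype_eq]
    have := Fintype.card_pos (α := V)
    omega
  by_cases hsolv : Group.IsSolvable H
  swap
  · rcases Cfsg.Agent.S0689.result H hreg hsolv with ⟨-, ⟨e⟩⟩ | ⟨-, ⟨e⟩⟩ | ⟨-, ⟨e⟩⟩
    · exact (not_unique_three_of_sl (e.trans (MulEquiv.prodUnique (N := PUnit.{1})).symm) h3).elim
    · exact (not_unique_three_of_sl e h3).elim
    · exact (not_unique_three_of_sl e h3).elim
  by_cases hI : ∀ A : Subgroup H, A.Normal → IsCyclic A → ∃ W : Submodule (ZMod p) V, W ≠ ⊥ ∧ W ≠ ⊤ ∧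
      ∀ a ∈ A, ∀ v ∈ W, ((a : H) : V ≃ₗ[ZMod p] V) v ∈ W
  · exact exists_index_two_of_card (by rcases Cfsg.Agent.S0688.result H hreg hI hsolv with h | h | h | h <;> omega) h3
  push Not at hI
  obtain ⟨A, hAn, hAc, hirr⟩ := hI
  have hirr' : ∀ W : Submodule (ZMod p) V, RegLin.Invariant A W → W = ⊥ ∨ W = ⊤ := fun W hW => by
    by_contra h
    push Not at h
    obtain ⟨a, ha, w, hw, h'⟩ := hirr W h.1 h.2
    exact h' (hW a ha w hw)
  haveI := hAn
  haveI := hAc
  haveI hC := RegLin.centralizer_commutative A hirr'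
  haveI : (Subgroup.centralizer (A : Set H)).Normal := Subgroup.normal_centralizer
  -- automorphisms of a cyclic group commute
  have hAut : ∀ f g : MulAut A, f * g = g * f := by
    intro f g
    obtain ⟨c, hc⟩ := IsCyclic.exists_generator (α := A)
    obtain ⟨i, hi⟩ := hc (f c)
    obtain ⟨j, hj⟩ := hc (g c)
    change c ^ i = f c at hi
    change c ^ j = g c at hj
    refine MulEquiv.ext fun a => ?_
    obtain ⟨k, rfl⟩ := hc a
    simp only [MulAut.mul_apply, map_zpow]
    rw [← hi, ← hj, map_zpow, map_zpow, ← hi, ← hj, ← zpow_mul, ← zpow_mul, ← zpow_mul, ← zpow_mul]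
    congr 1
    ring
  have hquot : ∀ x y : H ⧸ Subgroup.centralizer (A : Set H), x * y = y * x := by
    intro x y
    induction x using QuotientGroup.induction_on with | _ x =>
    induction y using QuotientGroup.induction_on with | _ y =>
    rw [← QuotientGroup.mk_mul, ← QuotientGroup.mk_mul, QuotientGroup.eq]
    refine Subgroup.mem_centralizer_iff.2 fun a ha => ?_
    have h1 : MulAut.conjNormal ((x * y)⁻¹ * (y * x)) = (1 : MulAut A) := by
      simp only [map_mul, map_inv]
      rw [hAut (MulAut.conjNormal y) (MulAut.conjNormal x), inv_mul_cancel]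
    have h2 := congrArg Subtype.val (DFunLike.congr_fun h1 ⟨a, ha⟩)
    rw [MulAut.conjNormal_apply] at h2
    exact (mul_inv_eq_iff_eq_mul.1 h2).symm
  by_cases hodd : 2 ∣ (Subgroup.centralizer (A : Set H)).index
  · exact exists_index_two_of_abelian_quot _ hodd hquot
  -- the Sylow subgroup is abelian, hence cyclic
  obtain ⟨T⟩ : Nonempty (Sylow 2 H) := inferInstance
  have hTC : (T : Subgroup H) ≤ Subgroup.centralizer (A : Set H) := by
    intro x hx
    obtain ⟨k, hk⟩ := T.2 ⟨x, hx⟩
    have hk' : x ^ 2 ^ k = 1 := congrArg Subtype.val hk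
    rw [← QuotientGroup.eq_one_iff]
    refine orderOf_eq_one_iff.1 (Nat.eq_one_of_dvd_coprimes (a := 2 ^ k)
      (b := (Subgroup.centralizer (A : Set H)).index) ?_ ?_ ?_)
    · exact Nat.Coprime.pow_left _ ((Nat.prime_two.coprime_iff_not_dvd).2 hodd)
    · exact orderOf_dvd_of_pow_eq_one (by rw [← QuotientGroup.mk_pow, hk']; rfl)
    · rw [Subgroup.index_eq_card]; exact orderOf_dvd_natCard _
  have hTc : IsMulCommutative (T : Subgroup H) := ⟨⟨fun a b => Subtype.ext (by
    have h := congrArg Subtype.val (hC.is_comm.comm ⟨a, hTC a.2⟩ ⟨b, hTC b.2⟩)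
    exact h)⟩⟩
  obtain ⟨W, hW, hWi, hmin⟩ := RegLin.exists_minimal_invariant (T : Subgroup H)
  exact exists_index_two_of_cyclic heven T (RegLin.cyclic_of_minimal hreg _ hTc hWi hW hmin)

/-- A group acting regularly on the non-identity elements of an elementary abelian group. -/
theorem exists_index_two_of_action {K : Type u} [CommGroup K] [Finite K] [Nontrivial K] {p : ℕ} [Fact p.Prime]
    (hKp : ∀ x : K, x ^ p = 1) (θ : D →* MulAut K) (hreg : ∀ x y : K, x ≠ 1 → y ≠ 1 → ∃! d : D, θ d x = y)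
    (heven : Even (Nat.card D)) (h3 : ∀ A B : Subgroup D, Nat.card A = 3 → Nat.card B = 3 → A = B) :
    ∃ M : Subgroup D, M.index = 2 := by
  obtain ⟨hmod⟩ : Nonempty (Module (ZMod p) (Additive K)) := by
    refine ⟨AddCommGroup.zmodModule fun x => ?_⟩
    show Additive.ofMul (x.toMul ^ p) = Additive.ofMul 1
    exact congrArg _ (hKp _)
  let Φ : D → (Additive K ≃ₗ[ZMod p] Additive K) := fun d =>
    { (θ d : K ≃* K).toAdditive with map_smul' := ZMod.map_smul (θ d : K ≃* K).toAdditive }
  have hΦ : ∀ (d : D) (x : Additive K), Φ d x = Additive.ofMul (θ d x.toMul) := fun d x => rfl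
  let φ : D →* (Additive K ≃ₗ[ZMod p] Additive K) := MonoidHom.mk' Φ fun d d' => LinearEquiv.ext fun x => by
    show Φ (d * d') x = Φ d (Φ d' x)
    rw [hΦ, hΦ, hΦ, map_mul]
    rfl
  obtain ⟨u, hu⟩ := exists_ne (1 : K)
  have hφ : Function.Injective φ := fun d d' e => by
    refine (hreg u (θ d' u) hu ?_).unique ?_ rfl
    · simpa using hu
    · exact congrArg Additive.toMul (DFunLike.congr_fun e (Additive.ofMul u))
  have hR : RegLin.Regular φ.range := by
    intro x y hx hy
    obtain ⟨d, hd, hdu⟩ := hreg x.toMul y.toMul hx hy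
    refine ⟨⟨φ d, d, rfl⟩, congrArg Additive.ofMul hd, ?_⟩
    rintro ⟨_, d', rfl⟩ he'
    exact Subtype.ext (congrArg φ (hdu d' (congrArg Additive.toMul he')))
  let e : D ≃* φ.range := MonoidHom.ofInjective hφ
  haveI : Nontrivial (Additive K) := inferInstanceAs (Nontrivial K)
  obtain ⟨M, hM⟩ := exists_index_two_of_regular φ.range hR
    (Nat.card_congr e.toEquiv ▸ even_iff_two_dvd.1 heven) fun A B hA hB => by
      have := h3 (A.comap e.toMonoidHom) (B.comap e.toMonoidHom)
        ((Nat.card_congr (Equiv.subtypeEquiv e.toEquiv fun _ => Iff.rfl)).trans hA)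
        ((Nat.card_congr (Equiv.subtypeEquiv e.toEquiv fun _ => Iff.rfl)).trans hB)
      exact Subgroup.comap_injective e.surjective this
  exact ⟨M.comap e.toMonoidHom, (Subgroup.index_comap_of_surjective (f := e.toMonoidHom) M e.surjective).trans hM⟩

/-- A regular action on an abelian group leaves at most one involution: it inverts everything. -/
theorem invol_unique_of_action {K : Type u} [CommGroup K] [Nontrivial K] (θ : D →* MulAut K)
    (hreg : ∀ x y : K, x ≠ 1 → y ≠ 1 → ∃! d : D, θ d x = y) {x y : D} (hx : x * x = 1) (hx1 : x ≠ 1)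
    (hy : y * y = 1) (hy1 : y ≠ 1) : x = y := by
  obtain ⟨u, hu⟩ := exists_ne (1 : K)
  have key : ∀ z : D, z * z = 1 → z ≠ 1 → θ z u = u⁻¹ := by
    intro z hz hz1
    have hfix : θ z (u * θ z u) = u * θ z u := by
      rw [map_mul, show θ z (θ z u) = θ (z * z) u by rw [map_mul]; rfl, hz, map_one, mul_comm]
      rfl
    by_contra hne
    have h1 : u * θ z u ≠ 1 := fun e => hne (eq_inv_of_mul_eq_one_right e)
    exact hz1 ((hreg _ _ h1 h1).unique hfix (by rw [map_one]; rfl))
  exact (hreg u u⁻¹ hu (inv_ne_one.2 hu)).unique (key x hx hx1) (key y hy hy1)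

end CfsgLib.Perm.ZIdx
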