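import Cfsg.Agent.Lib.Perm.Zassenhaus.IndexTwoLinear
import Cfsg.Agent.Lib.Perm.Groups.SharplyTwo
import Cfsg.Agent.S0728

/-!
# Sharply triply transitive groups of even degree are not simple

The two-point stabiliser has a subgroup of index two; fusion transfers it to the whole group.
-/

set_option autoImplicit false
set_option linter.unusedSectionVars false
set_option linter.style.haveILetI false

namespace CfsgLib.Perm.ZSharp

open MulAction CfsgLib.Perm

universe u v

variable {G : Type u} {Ω : Type v} [Group G] [Finite G] [MulAction G Ω] [Fintype Ω]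

/-- The cyclic group of order two. -/
abbrev Z2 := Multiplicative (ZMod 2)

theorem z2_cases (x : Z2) : x = 1 ∨ x = Multiplicative.ofAdd 1 := by
  revert x; decide

theorem z2_mul_self (x : Z2) : x * x = 1 := by
  revert x; decide

/-- A subgroup of index two as a homomorphism. -/
theorem exists_hom_of_index_two {D : Type*} [Group D] (M : Subgroup D) (hM : M.index = 2) :
    ∃ ν : D →* Z2, ∃ d, ν d ≠ 1 := by
  classical
  let ν : D →* Z2 := MonoidHom.mk' (fun d => if d ∈ M then 1 else Multiplicative.ofAdd 1) fun x y => by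
    have h := Subgroup.mul_mem_iff_of_index_two hM (a := x) (b := y)
    by_cases hx : x ∈ M <;> by_cases hy : y ∈ M <;> simp [h, hx, hy] <;> decide
  obtain ⟨d, hd⟩ : ∃ d, d ∉ M := by
    by_contra h
    push Not at h
    rw [(Subgroup.eq_top_iff' M).2 h, Subgroup.index_top] at hM
    omega
  refine ⟨ν, d, ?_⟩
  show (if d ∈ M then 1 else Multiplicative.ofAdd 1 : Z2) ≠ 1
  rw [if_neg hd]
  decide

/-- A homomorphism onto the group of order two is adjusted to be invariant under an involution. -/
theorem exists_invariant {D : Type*} [Group D] (σ : D →* D) (hσ : ∀ d, σ (σ d) = d) (ν : D →* Z2)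
    (hν : ∃ d, ν d ≠ 1) : ∃ μ : D →* Z2, (∃ d, μ d ≠ 1) ∧ ∀ d, μ (σ d) = μ d := by
  by_cases h : ∀ d, ν (σ d) = ν d
  · exact ⟨ν, hν, h⟩
  push Not at h
  obtain ⟨d, hd⟩ := h
  refine ⟨ν * ν.comp σ, ⟨d, fun h1 => hd ?_⟩, fun x => ?_⟩
  · rw [MonoidHom.mul_apply, MonoidHom.comp_apply] at h1
    calc ν (σ d) = ν d * ν d * ν (σ d) := by rw [z2_mul_self, one_mul]
      _ = ν d := by rw [mul_assoc, h1, mul_one]
  · simp only [MonoidHom.mul_apply, MonoidHom.comp_apply, hσ]
    exact mul_comm _ _

variable [FaithfulSMul G Ω] (h2 : IsMultiplyPretransitive G Ω 2)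
  (hthree : ∀ g : G, ∀ a b c : Ω, a ≠ b → b ≠ c → a ≠ c → g • a = a → g • b = b → g • c = c → g = 1)
  {a b : Ω} (hab : a ≠ b) (he : Nat.card ↥(stabilizer G a ⊓ stabilizer G b) + 2 = Fintype.card Ω)

include hthree hab he in
/-- The two-point stabiliser is regular on the remaining points. -/
theorem exists_move {x y : Ω} (hxa : x ≠ a) (hxb : x ≠ b) (hya : y ≠ a) (hyb : y ≠ b) :
    ∃! d : ↥(stabilizer G a ⊓ stabilizer G b), (d : G) • x = y := by
  classical
  have hne : ∀ d : ↥(stabilizer G a ⊓ stabilizer G b), (d : G) • x ≠ a ∧ (d : G) • x ≠ b := fun d =>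
    ⟨fun e => hxa (smul_left_cancel _ (e.trans d.2.1.symm)), fun e => hxb (smul_left_cancel _ (e.trans d.2.2.symm))⟩
  let f : ↥(stabilizer G a ⊓ stabilizer G b) → {z : Ω // z ≠ a ∧ z ≠ b} := fun d => ⟨(d : G) • x, hne d⟩
  have hb : Function.Bijective f := by
    refine (Nat.bijective_iff_injective_and_card f).2 ⟨fun g h e => ?_, ?_⟩
    · have e' : (g : G) • x = (h : G) • x := congrArg Subtype.val e
      have h1 : ((h : G)⁻¹ * g) = 1 := hthree _ a b x hab hxb.symm hxa.symm
        (by rw [mul_smul, show (g : G) • a = a from g.2.1, inv_smul_eq_iff, show (h : G) • a = a from h.2.1])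
        (by rw [mul_smul, show (g : G) • b = b from g.2.2, inv_smul_eq_iff, show (h : G) • b = b from h.2.2])
        (by rw [mul_smul, e', inv_smul_smul])
      exact Subtype.ext (inv_mul_eq_one.1 h1).symm
    · rw [Nat.card_eq_fintype_card (α := {z : Ω // z ≠ a ∧ z ≠ b}), Fintype.card_subtype,
        show Finset.univ.filter (fun z : Ω => z ≠ a ∧ z ≠ b) = Finset.univ \ {a, b} by ext z; simp,
        Finset.card_sdiff_of_subset (Finset.subset_univ _), Finset.card_pair hab, Finset.card_univ]
      omega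
  obtain ⟨d, hd⟩ := hb.2 ⟨y, hya, hyb⟩
  exact ⟨d, congrArg Subtype.val hd, fun d' hd' => hb.1 (Subtype.ext (hd'.trans (congrArg Subtype.val hd).symm))⟩

include h2 hthree hab he in
/-- Any element interchanging `a` and `b` can be corrected to one fixing a given further point. -/
theorem exists_swap {c : Ω} (hca : c ≠ a) (hcb : c ≠ b) :
    ∃ v : G, v • a = b ∧ v • b = a ∧ v • c = c ∧ v * v = 1 := by
  obtain ⟨g, hga, hgb⟩ := MulAction.is_two_pretransitive_iff.1 h2 hab hab.symm
  obtain ⟨d, hd, -⟩ := exists_move hthree hab he (x := g • c)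
    (fun e => hcb (smul_left_cancel g (e.trans hgb.symm))) (fun e => hca (smul_left_cancel g (e.trans hga.symm))) hca hcb
  have h1 : ((d : G) * g) • a = b := by rw [mul_smul, hga]; exact d.2.2
  have h2' : ((d : G) * g) • b = a := by rw [mul_smul, hgb]; exact d.2.1
  have h3 : ((d : G) * g) • c = c := by rw [mul_smul, hd]
  exact ⟨(d : G) * g, h1, h2', h3, hthree _ a b c hab hcb.symm hca.symm (by rw [mul_smul, h1, h2'])
    (by rw [mul_smul, h2', h1]) (by rw [mul_smul, h3, h3])⟩

include h2 hthree hab he in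
/-- Three-fold transitivity. -/
theorem three_transitive : IsMultiplyPretransitive G Ω 3 := by
  have key : ∀ x : Fin 3 ↪ Ω, ∀ c : Ω, c ≠ a → c ≠ b → ∃ g : G, g • x 0 = a ∧ g • x 1 = b ∧ g • x 2 = c := by
    intro x c hca hcb
    obtain ⟨g, hga, hgb⟩ := MulAction.is_two_pretransitive_iff.1 h2 (x.injective.ne (show (0 : Fin 3) ≠ 1 by decide)) hab
    obtain ⟨d, hd, -⟩ := exists_move hthree hab he (x := g • x 2)
      (fun e => x.injective.ne (show (2 : Fin 3) ≠ 0 by decide) (smul_left_cancel g (e.trans hga.symm)))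
      (fun e => x.injective.ne (show (2 : Fin 3) ≠ 1 by decide) (smul_left_cancel g (e.trans hgb.symm))) hca hcb
    exact ⟨(d : G) * g, by rw [mul_smul, hga]; exact d.2.1, by rw [mul_smul, hgb]; exact d.2.2,
      by rw [mul_smul, hd]⟩
  refine ⟨fun x y => ?_⟩
  obtain ⟨c, hca, hcb⟩ : ∃ c, c ≠ a ∧ c ≠ b := by
    by_contra h
    push Not at h
    have h' : ∀ i, x i = a ∨ x i = b := fun i => or_iff_not_imp_left.2 (h _)
    rcases h' 0 with e0 | e0 <;> rcases h' 1 with e1 | e1 <;> rcases h' 2 with e2 | e2 <;>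
      first
        | exact absurd (x.injective (e0.trans e1.symm)) (by decide)
        | exact absurd (x.injective (e0.trans e2.symm)) (by decide)
        | exact absurd (x.injective (e1.trans e2.symm)) (by decide)
  obtain ⟨g, g0, g1, g2⟩ := key x c hca hcb
  obtain ⟨g', g0', g1', g2'⟩ := key y c hca hcb
  refine ⟨g'⁻¹ * g, Function.Embedding.ext fun i => ?_⟩
  show (g'⁻¹ * g) • x i = y i
  fin_cases i
  · rw [mul_smul]; exact inv_smul_eq_iff.2 (g0.trans g0'.symm)
  · rw [mul_smul]; exact inv_smul_eq_iff.2 (g1.trans g1'.symm)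
  · rw [mul_smul]; exact inv_smul_eq_iff.2 (g2.trans g2'.symm)

include h2 hthree hab he in
/-- At most one subgroup of order three in the two-point stabiliser. -/
theorem unique_three (heven : Even (Nat.card ↥(stabilizer G a ⊓ stabilizer G b)))
    (A B : Subgroup ↥(stabilizer G a ⊓ stabilizer G b)) (hA : Nat.card A = 3) (hB : Nat.card B = 3) : A = B := by
  classical
  obtain ⟨π, hπ⟩ : ∃ π : G →* (toPermHom G Ω).range, π = (toPermHom G Ω).rangeRestrict := ⟨_, rfl⟩
  have hsm : ∀ g : G, ∀ x : Ω, π g • x = g • x := fun g x => by rw [hπ]; rfl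
  have hinj : Function.Injective π := fun g h e => eq_of_smul_eq_smul fun x : Ω => by rw [← hsm, e, hsm]
  have h6 : 6 ≤ Fintype.card Ω := by
    have h3d : 3 ∣ Nat.card ↥(stabilizer G a ⊓ stabilizer G b) := hA ▸ Subgroup.card_subgroup_dvd_card A
    obtain ⟨r, hr⟩ := heven
    have : 0 < Nat.card ↥(stabilizer G a ⊓ stabilizer G b) := Nat.card_pos
    omega
  have h3 : IsMultiplyPretransitive (toPermHom G Ω).range Ω 3 := by
    haveI := three_transitive h2 hthree hab he
    refine ⟨fun x y => ?_⟩
    obtain ⟨g, hg⟩ := MulAction.exists_smul_eq G x y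
    exact ⟨π g, Function.Embedding.ext fun i => (hsm g _).trans (DFunLike.congr_fun hg i)⟩
  have hsharp : ∀ x : Fin 3 ↪ Ω, stabilizer (toPermHom G Ω).range x = ⊥ := by
    intro x
    refine eq_bot_iff.2 fun g hg => Subgroup.mem_bot.2 ?_
    obtain ⟨g', rfl⟩ : ∃ g', π g' = g := by rw [hπ]; exact (toPermHom G Ω).rangeRestrict_surjective g
    have hfix : ∀ i, g' • x i = x i := fun i => (hsm g' _).symm.trans (DFunLike.congr_fun hg i)
    rw [hthree g' (x 0) (x 1) (x 2) (x.injective.ne (by decide)) (x.injective.ne (by decide))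
      (x.injective.ne (by decide)) (hfix 0) (hfix 1) (hfix 2), map_one]
  let ι : ↥(stabilizer G a ⊓ stabilizer G b) →* (toPermHom G Ω).range := π.comp (Subgroup.subtype _)
  have hι : Function.Injective ι := hinj.comp Subtype.val_injective
  have hle : ∀ C : Subgroup ↥(stabilizer G a ⊓ stabilizer G b), C.map ι ≤
      stabilizer (toPermHom G Ω).range a ⊓ stabilizer (toPermHom G Ω).range b := by
    rintro C _ ⟨d, -, rfl⟩
    exact ⟨(hsm _ a).trans d.2.1, (hsm _ b).trans d.2.2⟩
  refine Subgroup.map_injective hι ?_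
  exact Cfsg.Agent.S0728.result (he ▸ heven.add even_two) h6 _ h3 hsharp hab _ _ (hle A) (hle B)
    ((Subgroup.card_map_of_injective hι).trans hA) ((Subgroup.card_map_of_injective hι).trans hB)

include h2 hthree hab he in
/-- The two-point stabiliser has a subgroup of index two and at most one involution. -/
theorem index_two_data (heven : Even (Nat.card ↥(stabilizer G a ⊓ stabilizer G b))) :
    (∃ M : Subgroup ↥(stabilizer G a ⊓ stabilizer G b), M.index = 2) ∧
      ∀ x y : ↥(stabilizer G a ⊓ stabilizer G b), x * x = 1 → x ≠ 1 → y * y = 1 → y ≠ 1 → x = y := by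
  classical
  set D : Subgroup G := stabilizer G a ⊓ stabilizer G b with hD
  let π : stabilizer G a →* Equiv.Perm (SubMulAction.ofStabilizer G a) := toPermHom _ _
  have hsm : ∀ (g : stabilizer G a) (x : SubMulAction.ofStabilizer G a),
      ((π.rangeRestrict g) • x : SubMulAction.ofStabilizer G a) = g • x := fun g x => rfl
  have hne : ∀ x : SubMulAction.ofStabilizer G a, (x : Ω) ≠ a := fun x =>
    (SubMulAction.mem_ofStabilizer_iff G a).1 x.2
  let b' : SubMulAction.ofStabilizer G a := ⟨b, (SubMulAction.mem_ofStabilizer_iff G a).2 hab.symm⟩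
  haveI : Fintype (SubMulAction.ofStabilizer G a) := Fintype.ofFinite _
  -- two-fold transitivity on the remaining points
  have key : ∀ x y : SubMulAction.ofStabilizer G a, x ≠ y → ∀ c : Ω, c ≠ a → c ≠ b →
      ∃ g : G, g • a = a ∧ g • (x : Ω) = b ∧ g • (y : Ω) = c := by
    intro x y hxy c hca hcb
    obtain ⟨g, hga, hgx⟩ := MulAction.is_two_pretransitive_iff.1 h2 (hne x).symm hab
    obtain ⟨d, hd, -⟩ := exists_move hthree hab he (x := g • (y : Ω))
      (fun e => hne y (smul_left_cancel g (e.trans hga.symm)))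
      (fun e => hxy (Subtype.ext (smul_left_cancel g (hgx.trans e.symm)))) hca hcb
    exact ⟨(d : G) * g, by rw [mul_smul, hga]; exact d.2.1, by rw [mul_smul, hgx]; exact d.2.2,
      by rw [mul_smul, hd]⟩
  obtain ⟨c, hca, hcb⟩ : ∃ c, c ≠ a ∧ c ≠ b := by
    by_contra h
    push Not at h
    have hle : (Finset.univ : Finset Ω).card ≤ ({a, b} : Finset Ω).card := Finset.card_le_card fun x _ => by
      by_cases hx : x = a
      · simp [hx]
      · simp [h x hx]
    rw [Finset.card_pair hab, Finset.card_univ] at hle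
    have : 0 < Nat.card ↥D := Nat.card_pos
    omega
  have h2t : IsMultiplyPretransitive π.range (SubMulAction.ofStabilizer G a) 2 := by
    rw [MulAction.is_two_pretransitive_iff]
    intro x y z w hxy hzw
    obtain ⟨g, ga, gx, gy⟩ := key x y hxy c hca hcb
    obtain ⟨g', ga', gx', gy'⟩ := key z w hzw c hca hcb
    refine ⟨π.rangeRestrict ⟨g'⁻¹ * g, by show (g'⁻¹ * g) • a = a; rw [mul_smul, ga, inv_smul_eq_iff, ga']⟩, ?_, ?_⟩
    · rw [hsm]; refine Subtype.ext ?_
      show (g'⁻¹ * g) • (x : Ω) = z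
      rw [mul_smul, gx, inv_smul_eq_iff, gx']
    · rw [hsm]; refine Subtype.ext ?_
      show (g'⁻¹ * g) • (y : Ω) = w
      rw [mul_smul, gy, inv_smul_eq_iff, gy']
  have hsharp : ∀ x : Fin 2 ↪ SubMulAction.ofStabilizer G a, stabilizer π.range x = ⊥ := by
    intro x
    refine eq_bot_iff.2 fun g hg => Subgroup.mem_bot.2 ?_
    obtain ⟨g', rfl⟩ := π.rangeRestrict_surjective g
    have hfix : ∀ i, (g' : G) • (x i : Ω) = x i := fun i => congrArg Subtype.val (DFunLike.congr_fun hg i)
    have h1 : (g' : G) = 1 := hthree _ a (x 0) (x 1) (hne _).symm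
      (fun e => x.injective.ne (show (0 : Fin 2) ≠ 1 by decide) (Subtype.ext e)) (hne _).symm g'.2 (hfix 0) (hfix 1)
    rw [show g' = 1 from Subtype.ext h1, map_one]
  have hcard2 : 2 ≤ Fintype.card (SubMulAction.ofStabilizer G a) := by
    let c' : SubMulAction.ofStabilizer G a := ⟨c, (SubMulAction.mem_ofStabilizer_iff G a).2 hca⟩
    exact Fintype.one_lt_card_iff.2 ⟨b', c', fun e => hcb (congrArg Subtype.val e).symm⟩
  obtain ⟨p, K, hp, hKn, hKc, hKp, -, hKreg, -⟩ := CfsgLib.Perm.Groups.sharp_two_kernel h2t hsharp hcard2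
  haveI := Fact.mk hp
  haveI := hKn
  letI : CommGroup K :=
    { (inferInstance : Group K) with mul_comm := fun x y => Subtype.ext (hKc x x.2 y y.2) }
  let θ : D →* π.range := π.rangeRestrict.comp (Subgroup.inclusion inf_le_left)
  -- regularity
  have hreg : ∀ u w : K, u ≠ 1 → w ≠ 1 → ∃! d : D, MulAut.conjNormal (θ d) u = w := by
    intro u w hu hw
    have hmv : ∀ z : K, z ≠ 1 → (((z : π.range) • b' : SubMulAction.ofStabilizer G a) : Ω) ≠ b := fun z hz e =>
      hz ((hKreg b' b').unique (Subtype.ext e) (one_smul _ _))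
    have hfix : ∀ d : D, θ d • b' = b' := fun d => Subtype.ext d.2.2
    have hiff : ∀ d : D, MulAut.conjNormal (θ d) u = w ↔
        (d : G) • (((u : π.range) • b' : SubMulAction.ofStabilizer G a) : Ω) =
          (((w : π.range) • b' : SubMulAction.ofStabilizer G a) : Ω) := by
      intro d
      have hcv : ((MulAut.conjNormal (θ d) u : K) : π.range) • b' = θ d • ((u : π.range) • b') := by
        rw [MulAut.conjNormal_apply, mul_smul, mul_smul, inv_smul_eq_iff.2 (hfix d).symm]
      refine ⟨fun e => ?_, fun e => ?_⟩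
      · rw [← e, hcv]; rfl
      · refine (hKreg b' ((w : π.range) • b')).unique ?_ rfl
        rw [hcv]; exact Subtype.ext e
    obtain ⟨d, hd, hdu⟩ := exists_move hthree hab he (hne _) (hmv u hu) (hne ((w : π.range) • b')) (hmv w hw)
    exact ⟨d, (hiff d).2 hd, fun d' hd' => hdu d' ((hiff d').1 hd')⟩
  haveI : Nontrivial K := by
    let c' : SubMulAction.ofStabilizer G a := ⟨c, (SubMulAction.mem_ofStabilizer_iff G a).2 hca⟩
    obtain ⟨k, hk, -⟩ := hKreg b' c'
    refine ⟨k, 1, fun e => hcb ?_⟩
    have hk' : ((k : K) : π.range) • b' = c' := hk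
    rw [e] at hk'
    exact (congrArg Subtype.val ((one_smul π.range b').symm.trans hk')).symm
  exact ⟨ZIdx.exists_index_two_of_action (fun x => Subtype.ext (hKp _ x.2))
      ((MulAut.conjNormal : π.range →* MulAut K).comp θ) hreg heven (unique_three h2 hthree hab he heven),
    fun x y hx hx1 hy hy1 => ZIdx.invol_unique_of_action
      ((MulAut.conjNormal : π.range →* MulAut K).comp θ) hreg hx hx1 hy hy1⟩

include h2 hthree hab he in
/-- A homomorphism onto the group of order two that is invariant under an interchanging involution. -/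
theorem exists_invariant_hom (heven : Even (Nat.card ↥(stabilizer G a ⊓ stabilizer G b))) {s : G} (hsa : s • a = b)
    (hsb : s • b = a) (hss : s * s = 1) :
    ∃ ν : ↥(stabilizer G a ⊓ stabilizer G b) →* Z2, (∃ d, ν d ≠ 1) ∧
      ∀ d d' : ↥(stabilizer G a ⊓ stabilizer G b), (d' : G) = s * d * s → ν d' = ν d := by
  obtain ⟨⟨M, hM⟩, -⟩ := index_two_data h2 hthree hab he heven
  obtain ⟨ν, hν⟩ := exists_hom_of_index_two M hM
  have hmem : ∀ d : ↥(stabilizer G a ⊓ stabilizer G b), s * (d : G) * s ∈ stabilizer G a ⊓ stabilizer G b :=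
    fun d => ⟨by show (s * (d : G) * s) • a = a; rw [mul_smul, mul_smul, hsa, show (d : G) • b = b from d.2.2, hsb],
      by show (s * (d : G) * s) • b = b; rw [mul_smul, mul_smul, hsb, show (d : G) • a = a from d.2.1, hsa]⟩
  let σ : ↥(stabilizer G a ⊓ stabilizer G b) →* ↥(stabilizer G a ⊓ stabilizer G b) :=
    MonoidHom.mk' (fun d => ⟨s * d * s, hmem d⟩) fun d d' => Subtype.ext (by
      show s * ((d : G) * d') * s = s * d * s * (s * d' * s)
      rw [show s * (d : G) * s * (s * d' * s) = s * d * (s * s) * d' * s by group, hss]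
      group)
  obtain ⟨μ, hμ, hμσ⟩ := exists_invariant σ (fun d => Subtype.ext (by
    show s * (s * (d : G) * s) * s = d
    rw [show s * (s * (d : G) * s) * s = (s * s) * d * (s * s) by group, hss, one_mul, mul_one])) ν hν
  exact ⟨μ, hμ, fun d d' h => (congrArg μ (Subtype.ext h : d' = σ d)).trans (hμσ d)⟩

end CfsgLib.Perm.ZSharp
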